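import Groth.Agent.FormalExist.Base
import Groth.Agent.Formal61.Sys
import Groth.Agent.FormalFun.Powers

/-!
# Full faithfulness of completion when one module is killed by a power of the ideal
-/

set_option autoImplicit false

universe u

open CategoryTheory Limits AlgebraicGeometry Opposite TopologicalSpace
open Groth.Agent

noncomputable section

namespace Groth.Agent.FormalTors

open FormalExist FormalExist.Tricky

variable {A : Type u} [CommRing A] {X : Scheme.{u}} [X.Over (Spec (CommRingCat.of A))] {I : Ideal A}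

/-- The target is killed by a power of the ideal. -/
theorem existsUnique_of_target {M N : X.Modules} {e : ℕ} (hN : Formal.KilledBy (I ^ e) N)
    (ψ : Formal.completion I M ⟶ Formal.completion I N) :
    ∃! φ : M ⟶ N, ∀ n : ℕ, Formal.modPowπ I (n + 1) M ≫ ψ.app (op n) = φ ≫ Formal.modPowπ I (n + 1) N := by
  have iso : ∀ n, e ≤ n + 1 → IsIso (cπ I N n) := fun n hn =>
    (Formal61.Sys.isModQuot_modPowπ I (n + 1) N).isIso
      (Formal61.Sys.killedBy_mono (Ideal.pow_le_pow_right hn) hN)
  haveI := iso e (Nat.le_succ e)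
  refine ⟨cπ I M e ≫ ψ.app (op e) ≫ inv (cπ I N e), fun n => ?_, fun φ hφ => ?_⟩
  · have hnat : ∀ {a b : ℕ} (h : a ≤ b),
        cπ I M b ≫ ψ.app (op b) ≫ trM (Formal.completion I N) h = cπ I M a ≫ ψ.app (op a) := fun {a b} h => by
      rw [← ψ.naturality]
      exact (Category.assoc _ _ _).symm.trans (congrArg (· ≫ _) (cπ_trM M h))
    show cπ I M n ≫ ψ.app (op n) = (cπ I M e ≫ ψ.app (op e) ≫ inv (cπ I N e)) ≫ cπ I N n
    haveI := iso (max n e) ((le_max_right n e).trans (Nat.le_succ _))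
    let φ' := cπ I M (max n e) ≫ ψ.app (op (max n e)) ≫ inv (cπ I N (max n e))
    have h1 : φ' ≫ cπ I N (max n e) = cπ I M (max n e) ≫ ψ.app (op (max n e)) := by
      simp only [φ', Category.assoc, IsIso.inv_hom_id, Category.comp_id]
    have h2 : cπ I M e ≫ ψ.app (op e) ≫ inv (cπ I N e) = φ' := by
      rw [← cancel_mono (cπ I N e), Category.assoc, Category.assoc, IsIso.inv_hom_id, Category.comp_id,
        ← cπ_trM N (le_max_right n e), reassoc_of% h1, hnat]
    rw [h2, ← cπ_trM N (le_max_left n e), reassoc_of% h1, hnat]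
  · rw [← cancel_mono (cπ I N e), Category.assoc, Category.assoc, IsIso.inv_hom_id, Category.comp_id]
    exact (hφ e).symm

variable [AlgebraicGeometry.IsNoetherian X]

theorem exists_finite_cover (X : Scheme.{u}) [CompactSpace X] :
    ∃ σ : Finset X.affineOpens, ∀ x : X, ∃ W ∈ σ, x ∈ (W : X.Opens) := by
  obtain ⟨σ, hσ⟩ := isCompact_univ.elim_finite_subcover
    (fun W : X.affineOpens => ((W : X.Opens) : Set X)) (fun W => (W : X.Opens).isOpen) fun x _ => by
      obtain ⟨W, hW, hx, -⟩ := exists_isAffineOpen_mem_and_subset (X := X) (Opens.mem_top x)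
      exact Set.mem_iUnion.mpr ⟨⟨W, hW⟩, hx⟩
  refine ⟨σ, fun x => ?_⟩
  obtain ⟨W, hW⟩ := Set.mem_iUnion.mp (hσ (Set.mem_univ x))
  obtain ⟨hWσ, hxW⟩ := Set.mem_iUnion.mp hW
  exact ⟨W, hWσ, hxW⟩

/-- The source is killed by a power of the ideal. -/
theorem existsUnique_of_source {M N : X.Modules} (hM : Coh.IsCoh M) (hN : Coh.IsCoh N) {e : ℕ}
    (hMe : Formal.KilledBy (I ^ e) M) (ψ : Formal.completion I M ⟶ Formal.completion I N) :
    ∃! φ : M ⟶ N, ∀ n : ℕ, Formal.modPowπ I (n + 1) M ≫ ψ.app (op n) = φ ≫ Formal.modPowπ I (n + 1) N := by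
  classical
  haveI := hM.1
  haveI := hN.1
  obtain ⟨σ, hσ⟩ := exists_finite_cover X
  -- finitely many elements generating the ideal sheaf of `I ^ e`
  have hgen : ∀ W : X.affineOpens, ∃ s : Finset A, (↑s : Set A) ⊆ ↑(I ^ e) ∧
      (I ^ e).map (FormalFun.gA (A := A) W.1) = Ideal.span (FormalFun.gA (A := A) W.1 '' ↑s) := fun W => by
    haveI : IsNoetherianRing Γ(X, W.1) := IsLocallyNoetherian.component_noetherian W
    obtain ⟨t, ht, htspan⟩ := (Submodule.fg_span_iff_fg_span_finset_subset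
      (R := Γ(X, W.1)) (FormalFun.gA (A := A) W.1 '' (↑(I ^ e) : Set A))).mp (IsNoetherian.noetherian _)
    obtain ⟨s, hs, rfl⟩ := Finset.subset_set_image_iff.mp ht
    exact ⟨s, hs, htspan.trans (by rw [Finset.coe_image])⟩
  choose sW hsW hspW using hgen
  let a : ↥(σ.biUnion sW) → A := fun k => k.1
  have ha : ∀ k, a k ∈ I ^ e := fun k => by
    obtain ⟨W, -, hk⟩ := Finset.mem_biUnion.mp k.2
    exact hsW W hk
  let d : N ⟶ ⨁ fun _ : ↥(σ.biUnion sW) => N := biproduct.lift fun k => Formal.smulMod A N (a k)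
  let T := kernel d
  let ι : T ⟶ N := kernel.ι d
  have hT : Coh.IsCoh T := CohDev.isCoh_kernel d hN inferInstance
  haveI := hT.1
  -- membership in `T`
  have hkill : ∀ W ∈ σ, ∀ x : Γ(N, W.1), (∀ k, FormalFun.gA (A := A) W.1 (a k) • x = 0) →
      ∀ r ∈ (I ^ e).map (FormalFun.gA (A := A) W.1), r • x = 0 := fun W hW x hx r hr => by
    rw [hspW W] at hr
    induction hr using Submodule.span_induction with
    | mem r hr =>
      obtain ⟨b, hb, rfl⟩ := hr
      exact hx ⟨b, Finset.mem_biUnion.mpr ⟨W, hW, hb⟩⟩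
    | zero => exact zero_smul _ _
    | add r s _ _ hr hs => rw [add_smul, hr, hs, add_zero]
    | smul c r _ hr => rw [smul_eq_mul, mul_smul, hr, smul_zero]
  have hTk : ∀ W ∈ σ, ∀ (t : Γ(T, W.1)) (r : Γ(X, W.1)), r ∈ (I ^ e).map (FormalFun.gA (A := A) W.1) →
      r • ι.app W.1 t = 0 := fun W hW t r hr => hkill W hW _ (fun k => by
    refine (FormalFun.smulMod_app N (a k) W.1 _).symm.trans ?_
    rw [← FormalFun.app_comp, ← biproduct.lift_π (fun k => Formal.smulMod A N (a k)) k,
      ← Category.assoc, show ι ≫ d = 0 from kernel.condition d, zero_comp]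
    rfl) r hr
  -- the torsion meets high powers trivially
  have hinj : ∀ W : X.affineOpens, ∃ c, ∀ n, c ≤ n → ∀ x : Γ(N, W.1),
      (∀ r ∈ (I ^ e).map (FormalFun.gA (A := A) W.1), r • x = 0) → (cπ I N n).app W.1 x = 0 → x = 0 := fun W => by
    haveI : IsNoetherianRing Γ(X, W.1) := IsLocallyNoetherian.component_noetherian W
    haveI : SheafOfModules.IsFiniteType.{u} N := hN.2
    haveI := QCoh.finite_sections_of_isFiniteType N W.2
    let J := I.map (FormalFun.gA (A := A) W.1)
    let P : Submodule Γ(X, W.1) Γ(N, W.1) :=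
      { carrier := {x | ∀ r ∈ (I ^ e).map (FormalFun.gA (A := A) W.1), r • x = 0}
        zero_mem' := fun r _ => smul_zero r
        add_mem' := fun {x y} hx hy r hr => by rw [smul_add, hx r hr, hy r hr, add_zero]
        smul_mem' := fun c x hx r hr => by rw [smul_comm, hx r hr, smul_zero] }
    obtain ⟨c₀, hc₀⟩ := J.exists_pow_inf_eq_pow_smul P
    refine ⟨c₀ + e, fun n hn x hx hx0 => ?_⟩
    have h1 := (hc₀ (n + 1) (by omega)).le ⟨(cπ_app_eq_zero_iff N n W x).1 hx0, hx⟩
    refine Submodule.smul_induction_on (Submodule.smul_mono le_rfl inf_le_right h1) (fun r hr y hy => hy r ?_)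
      fun y z hy hz => by rw [hy, hz, add_zero]
    rw [Ideal.map_pow]
    exact Ideal.pow_le_pow_right (by omega) hr
  choose cW hcW using hinj
  let m := σ.sup cW
  let u : ∀ n, T ⟶ (Formal.completion I N).obj (op n) := fun n => ι ≫ cπ I N n
  have hmono : ∀ n, m ≤ n → Mono (u n) := fun n hn => by
    refine Abelian.mono_of_kernel_ι_eq_zero _ ?_
    haveI : ((Formal.completion I N).obj (op n)).IsQuasicoherent := ((isCohFormal_completion' (I := I) hN).1 n).1
    haveI := (CohDev.isCoh_kernel (u n) hT ((isCohFormal_completion' (I := I) hN).1 n).1).1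
    refine QCohGen.Noeth.eq_zero_of_cover _ fun x => ?_
    obtain ⟨W, hW, hxW⟩ := hσ x
    refine ⟨W, hxW, fun w => QCoh.app_injective_of_mono ι W.1 ?_⟩
    rw [map_zero]
    refine hcW W n ((Finset.le_sup (f := cW) hW).trans hn) _ (hTk W hW _) ?_
    rw [← FormalFun.app_comp, ← FormalFun.app_comp, kernel.condition]
    rfl
  let f : ∀ n, M ⟶ (Formal.completion I N).obj (op n) := fun n => cπ I M n ≫ ψ.app (op n)
  have hf : ∀ {a b : ℕ} (h : a ≤ b), f b ≫ trM (Formal.completion I N) h = f a := fun {a b} h => by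
    rw [Category.assoc, ← ψ.naturality]
    exact (Category.assoc _ _ _).symm.trans (congrArg (· ≫ _) (cπ_trM M h))
  have hu : ∀ {a b : ℕ} (h : a ≤ b), u b ≫ trM (Formal.completion I N) h = u a := fun {a b} h => by
    rw [Category.assoc, cπ_trM]
  -- the components land in the torsion
  have hz : ∀ n, f n ≫ cokernel.π (u n) = 0 := fun n => by
    have hCn := (isCohFormal_completion' (I := I) hN).1 n
    haveI := (CohDev.isCoh_cokernel (u n) hT.1 hCn).1
    refine QCohGen.Noeth.eq_zero_of_cover _ fun x => ?_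
    obtain ⟨W, hW, hxW⟩ := hσ x
    refine ⟨W, hxW, fun w => ?_⟩
    haveI : IsNoetherianRing Γ(X, W.1) := IsLocallyNoetherian.component_noetherian W
    haveI : SheafOfModules.IsFiniteType.{u} N := hN.2
    haveI := QCoh.finite_sections_of_isFiniteType N W.2
    let J := I.map (FormalFun.gA (A := A) W.1)
    let L : Γ(N, W.1) →ₗ[Γ(X, W.1)] (↥(σ.biUnion sW) → Γ(N, W.1)) :=
      LinearMap.pi fun k => LinearMap.lsmul Γ(X, W.1) Γ(N, W.1) (FormalFun.gA (A := A) W.1 (a k))
    obtain ⟨c₁, hc₁⟩ := J.exists_pow_inf_eq_pow_smul (LinearMap.range L)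
    haveI := ((isCohFormal_completion' (I := I) hN).1 (n + c₁)).1
    obtain ⟨y, hy⟩ := QCoh.app_surjective_of_epi (cπ I N (n + c₁)) W.2 ((f (n + c₁)).app W.1 w)
    have h1 : ∀ k, FormalFun.gA (A := A) W.1 (a k) • y ∈
        J ^ (n + c₁ + 1) • (⊤ : Submodule Γ(X, W.1) Γ(N, W.1)) := fun k => by
      refine (cπ_app_eq_zero_iff N _ W _).1 ?_
      rw [Scheme.Modules.Hom.app_smul, hy, ← Scheme.Modules.Hom.app_smul, ← FormalFun.smulMod_app, hMe _ (ha k)]
      exact map_zero _
    have h2 : L y ∈ J ^ (n + c₁ + 1) • (⊤ : Submodule Γ(X, W.1) (↥(σ.biUnion sW) → Γ(N, W.1))) := by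
      rw [← Finset.univ_sum_single (L y)]
      refine Submodule.sum_mem _ fun k _ => ?_
      have h3 := Submodule.mem_map_of_mem
        (f := LinearMap.single Γ(X, W.1) (fun _ : ↥(σ.biUnion sW) => Γ(N, W.1)) k) (h1 k)
      rw [Submodule.map_smul''] at h3
      exact Submodule.smul_mono le_rfl le_top h3
    have h3 := (hc₁ (n + c₁ + 1) (by omega)).le ⟨h2, LinearMap.mem_range_self L y⟩
    rw [show n + c₁ + 1 - c₁ = n + 1 by omega] at h3
    have h4 := Submodule.smul_mono le_rfl inf_le_right h3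
    rw [LinearMap.range_eq_map, ← Submodule.map_smul''] at h4
    obtain ⟨z, hz, hzy⟩ := h4
    obtain ⟨t, ht⟩ := exists_app_eq_of_kernel d W.1 (y - z) (by
      have hd : ∀ k, (biproduct.π (fun _ : ↥(σ.biUnion sW) => N) k).app W.1 (d.app W.1 (y - z)) = 0 := fun k => by
        rw [← FormalFun.app_comp, biproduct.lift_π, FormalFun.smulMod_app]
        have := congrFun (show L (y - z) = 0 by rw [map_sub, hzy, sub_self]) k
        exact this
      have htot : ∑ k, biproduct.π (fun _ : ↥(σ.biUnion sW) => N) k ≫ biproduct.ι (fun _ : ↥(σ.biUnion sW) => N) k = 𝟙 _ := by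
        refine biproduct.hom_ext' _ _ fun j => ?_
        rw [Category.comp_id, Preadditive.comp_sum, Finset.sum_eq_single j
          (fun k _ hk => by rw [biproduct.ι_π_ne_assoc _ (Ne.symm hk), zero_comp]) (by simp),
          biproduct.ι_π_self_assoc]
      have h5 := congrArg (fun φ => Scheme.Modules.Hom.app φ W.1 (d.app W.1 (y - z))) htot
      refine Eq.trans h5.symm ?_
      refine (map_sum (AddMonoidHom.mk' (fun φ : (⨁ fun _ : ↥(σ.biUnion sW) => N) ⟶ _ =>
        φ.app W.1 (d.app W.1 (y - z))) (fun φ φ' => rfl)) _ _).trans (Finset.sum_eq_zero fun k _ => ?_)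
      show Scheme.Modules.Hom.app (biproduct.π (fun _ : ↥(σ.biUnion sW) => N) k ≫
        biproduct.ι (fun _ : ↥(σ.biUnion sW) => N) k) W.1 _ = 0
      rw [FormalFun.app_comp, hd k, map_zero])
    have h6 : (f n).app W.1 w = (u n).app W.1 t := by
      rw [← hf (Nat.le_add_right n c₁), FormalFun.app_comp, ← hy, ← FormalFun.app_comp, cπ_trM,
        FormalFun.app_comp ι, ht, map_sub, (cπ_app_eq_zero_iff N n W z).2 hz, sub_zero]
    rw [FormalFun.app_comp, h6, ← FormalFun.app_comp, cokernel.condition]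
    rfl
  haveI := hmono m le_rfl
  let φ := Abelian.monoLift (u m) (f m) (hz m) ≫ ι
  have hφ : ∀ n, φ ≫ cπ I N n = f n := fun n => by
    haveI := hmono (max n m) (le_max_right n m)
    have h1 := Abelian.monoLift_comp (u (max n m)) (f (max n m)) (hz _)
    have h2 : Abelian.monoLift (u (max n m)) (f (max n m)) (hz _) = Abelian.monoLift (u m) (f m) (hz m) := by
      rw [← cancel_mono (u m), Abelian.monoLift_comp, ← hu (le_max_right n m), ← Category.assoc, h1, hf]
    rw [← cπ_trM N (le_max_left n m)]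
    show (Abelian.monoLift (u m) (f m) (hz m) ≫ ι) ≫ _ = _
    rw [Category.assoc, ← h2, ← Category.assoc ι, ← Category.assoc]
    exact (congrArg (· ≫ _) h1).trans (hf _)
  refine ⟨φ, fun n => (hφ n).symm, fun φ' hφ' => ?_⟩
  rw [← sub_eq_zero]
  refine QCohGen.Noeth.eq_zero_of_cover _ fun x => ?_
  obtain ⟨W, hW, hxW⟩ := hσ x
  refine ⟨W, hxW, fun w => hcW W m (Finset.le_sup (f := cW) hW) _ (fun r hr => ?_) ?_⟩
  · rw [← Scheme.Modules.Hom.app_smul]
    have h7 : r • w = 0 := by
      induction hr using Submodule.span_induction with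
      | mem r hr =>
        obtain ⟨b, hb, rfl⟩ := hr
        refine (FormalFun.smulMod_app M b W.1 w).symm.trans ?_
        rw [hMe b hb]
        rfl
      | zero => exact zero_smul _ _
      | add r s _ _ hr hs => rw [add_smul, hr, hs, add_zero]
      | smul c r _ hr => rw [smul_eq_mul, mul_smul, hr, smul_zero]
    rw [h7, map_zero]
  · rw [← FormalFun.app_comp, Preadditive.sub_comp, show φ' ≫ cπ I N m = f m from (hφ' m).symm, hφ, sub_self]
    rfl

end Groth.Agent.FormalTors
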