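import Groth.Agent.FormalExist.AffSys

/-!
# Kernels of maps of systems over a Noetherian ring
-/

set_option autoImplicit false

universe u v

open Submodule Groth.Agent
open Groth.Agent.FormalExist

noncomputable section

namespace Groth.Agent.FormalTors.AffKer

variable {B : Type u} [CommRing B] [IsNoetherianRing B] (J : Ideal B)

local notation "R" => AdicCompletion J B

variable {Ms : ℕ → Type v} [∀ n, AddCommGroup (Ms n)] [∀ n, Module B (Ms n)]
  {Ns : ℕ → Type v} [∀ n, AddCommGroup (Ns n)] [∀ n, Module B (Ns n)]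

/-- The stable kernel. -/
def Kc (f : ∀ n, Ms (n + 1) →ₗ[B] Ms n) (φ : ∀ n, Ms n →ₗ[B] Ns n) (n : ℕ) : Submodule B (Ms n) where
  carrier := {x | ∃ y, AffSys.IsCompat f y ∧ (∀ j, φ j (y j) = 0) ∧ y n = x}
  zero_mem' := ⟨0, fun _ => map_zero _, fun _ => map_zero _, rfl⟩
  add_mem' := by
    rintro _ _ ⟨y, hy, hy0, rfl⟩ ⟨z, hz, hz0, rfl⟩
    exact ⟨y + z, fun j => by rw [Pi.add_apply, map_add, hy j, hz j]; rfl,
      fun j => by rw [Pi.add_apply, map_add, hy0 j, hz0 j, add_zero], rfl⟩
  smul_mem' := by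
    rintro b _ ⟨y, hy, hy0, rfl⟩
    exact ⟨b • y, fun j => by rw [Pi.smul_apply, map_smul, hy j]; rfl,
      fun j => by rw [Pi.smul_apply, map_smul, hy0 j, smul_zero], rfl⟩

omit [IsNoetherianRing B] in
theorem exists_limSys {f : ∀ n, Ms (n + 1) →ₗ[B] Ms n} (hk : ∀ n, ∀ a ∈ J ^ (n + 1), ∀ x : Ms n, a • x = 0) :
    letI : ∀ n, Module R (Ms n) := fun n => Module.compHom (Ms n) (AffSys.act J (hk n))
    (∀ n (b : B) (x : Ms n), algebraMap B R b • x = b • x) ∧
      ∀ n (r : R) (x : Ms (n + 1)), f n (r • x) = r • f n x := by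
  letI : ∀ n, Module R (Ms n) := fun n => Module.compHom (Ms n) (AffSys.act J (hk n))
  have hsmul : ∀ n (r : R) (x : Ms n), r • x = AffSys.act J (hk n) r x := fun _ _ _ => rfl
  refine ⟨fun n a x => ?_, fun n r x => ?_⟩
  · rw [hsmul]
    exact AffSys.act_eq J (hk n) (AlgHom.commutes (AdicCompletion.evalₐ J (n + 1)) a) x
  · obtain ⟨a, ha⟩ := AffSys.exists_rep J r (n + 1 + 1)
    rw [hsmul, hsmul, AffSys.act_eq J (hk (n + 1)) (ha _ le_rfl),
      AffSys.act_eq J (hk n) (ha _ (Nat.le_succ _)), map_smul]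

theorem exists_bound {f : ∀ n, Ms (n + 1) →ₗ[B] Ms n} (hs : ∀ n, Function.Surjective (f n))
    (hker : ∀ n, LinearMap.ker (f n) = J ^ (n + 1) • (⊤ : Submodule B (Ms (n + 1))))
    (h0 : Module.Finite B (Ms 0))
    {g : ∀ n, Ns (n + 1) →ₗ[B] Ns n} (gs : ∀ n, Function.Surjective (g n))
    (gker : ∀ n, LinearMap.ker (g n) = J ^ (n + 1) • (⊤ : Submodule B (Ns (n + 1))))
    (g0 : Module.Finite B (Ns 0))
    (φ : ∀ n, Ms n →ₗ[B] Ns n) (hφ : ∀ n x, g n (φ (n + 1) x) = φ n (f n x)) :
    ∃ c, ∀ c', c ≤ c' →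
      (∀ (n : ℕ) (y : ∀ j, Ms j), AffSys.IsCompat f y → φ (n + c') (y (n + c')) = 0 → y n ∈ Kc f φ n) ∧
      (∀ (n : ℕ) (y : ∀ j, Ms j), AffSys.IsCompat f y → (∀ j, φ j (y j) = 0) → y (n + c') = 0 →
        ∀ j, y j ∈ J ^ (n + 1) • Kc f φ j) := by
  classical
  have hk := AffSys.killed J hs hker
  have gk := AffSys.killed J gs gker
  letI : ∀ n, Module R (Ms n) := fun n => Module.compHom (Ms n) (AffSys.act J (hk n))
  letI : ∀ n, Module R (Ns n) := fun n => Module.compHom (Ns n) (AffSys.act J (gk n))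
  obtain ⟨haM, hfM⟩ := exists_limSys J (f := f) hk
  obtain ⟨haN, hfN⟩ := exists_limSys J (f := g) gk
  haveI : ∀ n, IsScalarTower B R (Ms n) := fun n => IsScalarTower.of_algebraMap_smul (haM n)
  haveI : ∀ n, IsScalarTower B R (Ns n) := fun n => IsScalarTower.of_algebraMap_smul (haN n)
  let fR : ∀ n, Ms (n + 1) →ₗ[R] Ms n := fun n =>
    { toFun := f n, map_add' := map_add _, map_smul' := hfM n }
  let gR : ∀ n, Ns (n + 1) →ₗ[R] Ns n := fun n =>
    { toFun := g n, map_add' := map_add _, map_smul' := hfN n }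
  let φR : ∀ n, Ms n →ₗ[R] Ns n := fun n =>
    { toFun := φ n, map_add' := map_add _, map_smul' := fun r x => by
        obtain ⟨a, ha⟩ := AffSys.exists_rep J r (n + 1)
        show φ n (AffSys.act J (hk n) r x) = AffSys.act J (gk n) r (φ n x)
        rw [AffSys.act_eq J (hk n) (ha _ le_rfl), AffSys.act_eq J (gk n) (ha _ le_rfl), map_smul] }
  let L : Submodule R (∀ n, Ms n) :=
    { carrier := {y | ∀ n, fR n (y (n + 1)) = y n}
      add_mem' := fun {a c} ha hc n => by rw [Pi.add_apply, map_add, ha n, hc n]; rfl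
      zero_mem' := fun n => map_zero _
      smul_mem' := fun r y hy n => by rw [Pi.smul_apply, map_smul, hy n]; rfl }
  let LN : Submodule R (∀ n, Ns n) :=
    { carrier := {y | ∀ n, gR n (y (n + 1)) = y n}
      add_mem' := fun {a c} ha hc n => by rw [Pi.add_apply, map_add, ha n, hc n]; rfl
      zero_mem' := fun n => map_zero _
      smul_mem' := fun r y hy n => by rw [Pi.smul_apply, map_smul, hy n]; rfl }
  let π : ∀ n, L →ₗ[R] Ms n := fun n => (LinearMap.proj n).comp L.subtype
  let πN : ∀ n, LN →ₗ[R] Ns n := fun n => (LinearMap.proj n).comp LN.subtype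
  let JR : Ideal R := J.map (algebraMap B R)
  have hJM : ∀ k n, ((JR ^ k • ⊤ : Submodule R (Ms n))).restrictScalars B = J ^ k • (⊤ : Submodule B (Ms n)) :=
    fun k n => by rw [← Ideal.map_pow, Ideal.smul_restrictScalars, Submodule.restrictScalars_top]
  have hJN : ∀ k n, ((JR ^ k • ⊤ : Submodule R (Ns n))).restrictScalars B = J ^ k • (⊤ : Submodule B (Ns n)) :=
    fun k n => by rw [← Ideal.map_pow, Ideal.smul_restrictScalars, Submodule.restrictScalars_top]
  have hsys : Adic.LimSys R JR Ms fR L π :=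
    { surj := hs
      ker_eq := fun n => Submodule.restrictScalars_injective B R _ (by
        rw [hJM, ← hker n]
        rfl)
      compat := fun n => LinearMap.ext fun x => x.2 n
      inj := fun x hx => Subtype.ext (funext hx)
      lift := fun y hy => ⟨⟨y, hy⟩, fun n => rfl⟩ }
  have gsys : Adic.LimSys R JR Ns gR LN πN :=
    { surj := gs
      ker_eq := fun n => Submodule.restrictScalars_injective B R _ (by
        rw [hJN, ← gker n]
        rfl)
      compat := fun n => LinearMap.ext fun x => x.2 n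
      inj := fun x hx => Subtype.ext (funext hx)
      lift := fun y hy => ⟨⟨y, hy⟩, fun n => rfl⟩ }
  haveI : IsNoetherianRing R := RegLoc.Completion.isNoetherianRing_adicCompletion' J
  haveI : IsAdicComplete J R := AdicCompletion.isAdicComplete (IsNoetherian.noetherian J)
  haveI : IsAdicComplete JR R := (IsAdicComplete.map_algebraMap_iff (S := R) J R).mpr ‹_›
  haveI : Module.Finite R (Ms 0) := Module.Finite.of_restrictScalars_finite B R (Ms 0)
  haveI : Module.Finite R (Ns 0) := Module.Finite.of_restrictScalars_finite B R (Ns 0)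
  obtain ⟨r, ψ, hψ, hkerπ⟩ := hsys.exists_surjective_of_finite (inferInstance : Module.Finite R (Ms 0))
  haveI : Module.Finite R L := Module.Finite.of_surjective ψ hψ
  obtain ⟨r', ψ', hψ', hkerπN⟩ := gsys.exists_surjective_of_finite (inferInstance : Module.Finite R (Ns 0))
  haveI : Module.Finite R LN := Module.Finite.of_surjective ψ' hψ'
  let Φ : L →ₗ[R] LN :=
    { toFun := fun y => ⟨fun j => φR j (y.1 j), fun j => by
        show g j (φ (j + 1) (y.1 (j + 1))) = φ j (y.1 j)
        rw [hφ]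
        exact congrArg (φ j) (y.2 j)⟩
      map_add' := fun y z => Subtype.ext (funext fun j => map_add (φR j) _ _)
      map_smul' := fun a y => Subtype.ext (funext fun j => map_smul (φR j) a _) }
  obtain ⟨c₀, hc₀⟩ := JR.exists_pow_inf_eq_pow_smul (LinearMap.ker Φ)
  obtain ⟨c₁, hc₁⟩ := JR.exists_pow_inf_eq_pow_smul (LinearMap.range Φ)
  refine ⟨max c₀ c₁, fun c' hc' => ⟨fun n y hy hy0 => ?_, fun n y hy hy0 hyn j => ?_⟩⟩
  · let x : L := ⟨y, hy⟩
    have h1 : Φ x ∈ JR ^ (n + c' + 1) • (⊤ : Submodule R LN) := by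
      rw [← hkerπN, LinearMap.mem_ker]
      exact hy0
    have h2 := (hc₁ (n + c' + 1) (by omega)).le ⟨h1, LinearMap.mem_range_self Φ x⟩
    have h3 := Submodule.smul_mono (Ideal.pow_le_pow_right (show n + 1 ≤ n + c' + 1 - c₁ by omega)) inf_le_right h2
    rw [LinearMap.range_eq_map, ← Submodule.map_smul''] at h3
    obtain ⟨w, hw, hwx⟩ := h3
    have hd : Φ (x - w) = 0 := by rw [map_sub, hwx, sub_self]
    have hwn : π n w = 0 := hsys.smul_le_ker le_rfl hw
    refine ⟨(x - w).1, (x - w).2, fun j => congrFun (congrArg Subtype.val hd) j, ?_⟩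
    show π n (x - w) = y n
    rw [map_sub, hwn, sub_zero]
    rfl
  · let x : L := ⟨y, hy⟩
    have h1 : x ∈ JR ^ (n + c' + 1) • (⊤ : Submodule R L) := by
      rw [← hkerπ, LinearMap.mem_ker]
      exact hyn
    have h2 := (hc₀ (n + c' + 1) (by omega)).le ⟨h1, LinearMap.mem_ker.mpr (Subtype.ext (funext hy0))⟩
    have h3 := Submodule.smul_mono (Ideal.pow_le_pow_right (show n + 1 ≤ n + c' + 1 - c₀ by omega)) inf_le_right h2
    suffices ∀ w ∈ JR ^ (n + 1) • LinearMap.ker Φ, π j w ∈ J ^ (n + 1) • Kc f φ j from this x h3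
    intro w hw
    refine Submodule.smul_induction_on hw (fun a ha z hz => ?_) fun s t hs ht => by
      rw [map_add]; exact add_mem hs ht
    rw [← Ideal.map_pow] at ha
    induction ha using Submodule.span_induction generalizing z with
    | mem a ha =>
      obtain ⟨b, hb, rfl⟩ := ha
      rw [map_smul, algebraMap_smul]
      exact Submodule.smul_mem_smul hb
        ⟨z.1, z.2, fun i => congrFun (congrArg Subtype.val (LinearMap.mem_ker.mp hz)) i, rfl⟩
    | zero => rw [zero_smul, map_zero]; exact zero_mem _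
    | add a a' _ _ ha ha' => rw [add_smul, map_add]; exact add_mem (ha z hz) (ha' z hz)
    | smul s a _ ha =>
      rw [smul_eq_mul, mul_comm, mul_smul]
      exact ha (s • z) (Submodule.smul_mem _ s hz)

end Groth.Agent.FormalTors.AffKer
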