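import Groth.Agent.FormalTors.AffKer
import Groth.Agent.FormalTors.Basic

/-!
# Kernels in the category of coherent formal modules
-/

set_option autoImplicit false

universe u

open CategoryTheory Limits AlgebraicGeometry Opposite TopologicalSpace
open Groth.Agent

noncomputable section

namespace Groth.Agent.FormalTors.Kernel

open FormalExist FormalExist.Tricky CohDev

variable {A : Type u} [CommRing A] {X : Scheme.{u}} [X.Over (Spec (CommRingCat.of A))] {I : Ideal A}

/-- the transition maps on sections -/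
abbrev fW (F : ℕᵒᵖ ⥤ X.Modules) (W : X.Opens) (n : ℕ) :
    Γ(F.obj (op (n + 1)), W) →ₗ[Γ(X, W)] Γ(F.obj (op n), W) := appLin (tr1 F n) W

theorem compat_apply {F : ℕᵒᵖ ⥤ X.Modules} {W : X.Opens} {g : ∀ j, Γ(F.obj (op j), W)}
    (hg : AffSys.IsCompat (fW F W) g) {a b : ℕ} (h : a ≤ b) : (trM F h).app W (g b) = g a := by
  induction b, h using Nat.le_induction with
  | base =>
    rw [show trM F (le_refl a) = 𝟙 _ from F.map_id (op a)]
    rfl
  | succ b hb ih =>
    rw [show trM F (hb.trans (Nat.le_succ b)) = tr1 F b ≫ trM F hb by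
      rw [← F.map_comp, ← op_comp, homOfLE_comp], FormalFun.app_comp]
    exact (congrArg ((trM F hb).app W) (hg b)).trans ih

theorem htr (G : ℕᵒᵖ ⥤ X.Modules) {a b d : ℕ} (h : a ≤ b) (h' : b ≤ d) :
    trM G h' ≫ trM G h = trM G (h.trans h') := by
  rw [← G.map_comp, ← op_comp, homOfLE_comp]

variable [AlgebraicGeometry.IsNoetherian X]

theorem exists_kernel {F G : ℕᵒᵖ ⥤ X.Modules} (hF : Formal.IsCohFormal I F) (hG : Formal.IsCohFormal I G)
    (α : F ⟶ G) :
    ∃ (K : ℕᵒᵖ ⥤ X.Modules) (j : K ⟶ F), Formal.IsCohFormal I K ∧ j ≫ α = 0 ∧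
      ∀ (H : ℕᵒᵖ ⥤ X.Modules), Formal.IsCohFormal I H → ∀ β : H ⟶ F, β ≫ α = 0 →
        ∃! γ : H ⟶ K, γ ≫ j = β := by
  classical
  obtain ⟨σ, hσ⟩ := exists_finite_cover X
  haveI hFq : ∀ n, (F.obj (op n)).IsQuasicoherent := fun n => (hF.1 n).1
  haveI hGq : ∀ n, (G.obj (op n)).IsQuasicoherent := fun n => (hG.1 n).1
  let φW : ∀ (W : X.Opens) (n : ℕ), Γ(F.obj (op n), W) →ₗ[Γ(X, W)] Γ(G.obj (op n), W) :=
    fun W n => appLin (α.app (op n)) W
  have hsurj : ∀ {E : ℕᵒᵖ ⥤ X.Modules}, Formal.IsCohFormal I E → ∀ (W : X.affineOpens) (n : ℕ),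
      Function.Surjective (fW E W.1 n) := fun {E} hE W n => by
    haveI := (hE.1 (n + 1)).1
    haveI := (hE.1 n).1
    haveI : Epi (tr1 E n) := Formal61.Sys.IsModQuot.epi (hE.2.2 n)
    exact QCoh.app_surjective_of_epi (tr1 E n) W.2
  have hkerW : ∀ {E : ℕᵒᵖ ⥤ X.Modules}, Formal.IsCohFormal I E → ∀ (W : X.affineOpens) (n : ℕ),
      LinearMap.ker (fW E W.1 n) = (I.map (FormalFun.gA (A := A) W.1)) ^ (n + 1) • ⊤ := fun {E} hE W n => by
    haveI := (hE.1 (n + 1)).1
    exact Submodule.ext fun x => app_eq_zero_iff (hE.2.2 n) W x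
  have hb : ∀ W : X.affineOpens, ∃ c, ∀ c', c ≤ c' →
      (∀ (n : ℕ) (y : ∀ j, Γ(F.obj (op j), W.1)), AffSys.IsCompat (fW F W.1) y → φW W.1 (n + c') (y (n + c')) = 0 →
        y n ∈ AffKer.Kc (fW F W.1) (φW W.1) n) ∧
      (∀ (n : ℕ) (y : ∀ j, Γ(F.obj (op j), W.1)), AffSys.IsCompat (fW F W.1) y → (∀ j, φW W.1 j (y j) = 0) →
        y (n + c') = 0 → ∀ j, y j ∈ (I.map (FormalFun.gA (A := A) W.1)) ^ (n + 1) •
          AffKer.Kc (fW F W.1) (φW W.1) j) := fun W => by
    haveI : IsNoetherianRing Γ(X, W.1) := IsLocallyNoetherian.component_noetherian W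
    exact AffKer.exists_bound (I.map (FormalFun.gA (A := A) W.1)) (hsurj hF W) (hkerW hF W)
      (finite_sections (hF.1 0) W.2) (hsurj hG W) (hkerW hG W) (finite_sections (hG.1 0) W.2) (φW W.1)
      fun n x => by
        show (tr1 G n).app W.1 ((α.app (op (n + 1))).app W.1 x) = (α.app (op n)).app W.1 ((tr1 F n).app W.1 x)
        rw [← FormalFun.app_comp, ← FormalFun.app_comp, ← α.naturality]
  choose cW hcW using hb
  let c := σ.sup cW
  -- the pieces
  let ρ : ∀ n, kernel (α.app (op (n + c + c))) ⟶ F.obj (op (n + c)) := fun n =>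
    kernel.ι _ ≫ trM F (Nat.le_add_right (n + c) c)
  let T : ℕ → X.Modules := fun n => Abelian.image (ρ n)
  let ιT : ∀ n, T n ⟶ F.obj (op (n + c)) := fun n => Abelian.image.ι (ρ n)
  have hkc : ∀ n, Coh.IsCoh (kernel (α.app (op (n + c + c)))) := fun n => isCoh_kernel _ (hF.1 _) (hG.1 _).1
  have hTc : ∀ n, Coh.IsCoh (T n) := fun n =>
    isCoh_kernel (cokernel.π (ρ n)) (hF.1 _) (isCoh_cokernel (ρ n) (hkc n).1 (hF.1 _)).1
  haveI hTq : ∀ n, (T n).IsQuasicoherent := fun n => (hTc n).1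
  have hTmem : ∀ W ∈ σ, ∀ (n : ℕ) (x : Γ(F.obj (op (n + c)), W.1)),
      (∃ y : Γ(T n, W.1), (ιT n).app W.1 y = x) ↔ x ∈ AffKer.Kc (fW F W.1) (φW W.1) (n + c) := by
    intro W hW n x
    haveI := (hkc n).1
    constructor
    · rintro ⟨y, rfl⟩
      obtain ⟨z, rfl⟩ := QCoh.app_surjective_of_epi (Abelian.factorThruImage (ρ n)) W.2 y
      rw [← FormalFun.app_comp, Abelian.image.fac]
      obtain ⟨g, hg, hgz⟩ := AffSys.exists_compat (hsurj hF W)
        ((kernel.ι (α.app (op (n + c + c)))).app W.1 z)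
      have h1 : φW W.1 (n + c + c) (g (n + c + c)) = 0 := by
        rw [hgz]
        show (α.app (op (n + c + c))).app W.1 _ = 0
        rw [← FormalFun.app_comp, kernel.condition]
        rfl
      have h2 := (hcW W c (Finset.le_sup (f := cW) hW)).1 (n + c) g hg h1
      rw [← compat_apply hg (Nat.le_add_right (n + c) c), hgz, ← FormalFun.app_comp] at h2
      exact h2
    · rintro ⟨g, hg, hg0, rfl⟩
      obtain ⟨z, hz⟩ := exists_app_eq_of_kernel (α.app (op (n + c + c))) W.1 (g (n + c + c)) (hg0 _)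
      refine ⟨(Abelian.factorThruImage (ρ n)).app W.1 z, ?_⟩
      rw [← FormalFun.app_comp, Abelian.image.fac, FormalFun.app_comp, hz, compat_apply hg]
  -- transition maps
  have hTz : ∀ {a b : ℕ} (h : a ≤ b), ιT b ≫ trM F (Nat.add_le_add_right h c) ≫ cokernel.π (ρ a) = 0 := by
    intro a b h
    let k : kernel (α.app (op (b + c + c))) ⟶ kernel (α.app (op (a + c + c))) :=
      kernel.map _ _ (trM F (by omega)) (trM G (by omega)) (α.naturality _).symm
    rw [← cancel_epi (Abelian.factorThruImage (ρ b)), comp_zero, ← Category.assoc, Abelian.image.fac,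
      ← Category.assoc, Category.assoc (kernel.ι _), htr]
    have h1 : kernel.ι (α.app (op (b + c + c))) ≫
        trM F ((Nat.add_le_add_right h c).trans (Nat.le_add_right (b + c) c)) = k ≫ ρ a := by
      simp only [k, ρ, kernel.lift_ι_assoc, Category.assoc]
      rw [htr]
    rw [h1, Category.assoc, cokernel.condition, comp_zero]
  let t : ∀ {a b : ℕ} (_ : a ≤ b), T b ⟶ T a := fun {a b} h =>
    kernel.lift _ (ιT b ≫ trM F (Nat.add_le_add_right h c)) (by rw [Category.assoc]; exact hTz h)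
  have htι : ∀ {a b : ℕ} (h : a ≤ b), t h ≫ ιT a = ιT b ≫ trM F (Nat.add_le_add_right h c) :=
    fun {a b} h => kernel.lift_ι _ _ _
  have htt : ∀ {a b d : ℕ} (h : a ≤ b) (h' : b ≤ d), t h' ≫ t h = t (h.trans h') := fun {a b d} h h' => by
    rw [← cancel_mono (ιT a), Category.assoc, htι h, ← Category.assoc, htι h', Category.assoc, htr, htι (h.trans h')]
  have htsurj : ∀ W ∈ σ, ∀ {a b : ℕ} (h : a ≤ b) (y : Γ(T a, W.1)), ∃ z, (t h).app W.1 z = y := by
    intro W hW a b h y
    obtain ⟨g, hg, hg0, hgy⟩ := (hTmem W hW a _).1 ⟨y, rfl⟩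
    obtain ⟨z, hz⟩ := (hTmem W hW b (g (b + c))).2 ⟨g, hg, hg0, rfl⟩
    refine ⟨z, QCoh.app_injective_of_mono (ιT a) W.1 ?_⟩
    rw [← FormalFun.app_comp, htι h, FormalFun.app_comp, hz, compat_apply hg, hgy]
  let q0 : ∀ n, T n ⟶ Formal.modPow I (n + 1) (T n) := fun n => Formal.modPowπ I (n + 1) (T n)
  choose d hd using fun n => (Formal61.Sys.isModQuot_modPowπ I (n + 1 + 1) (T (n + 1))).exists_desc_of_killedBy
    (t (Nat.le_succ n) ≫ q0 n) (Formal61.Sys.killedBy_mono (Ideal.pow_le_pow_right (Nat.le_succ _))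
      (Formal61.Sys.killedBy_modPow I (n + 1) (T n)))
  let K : ℕᵒᵖ ⥤ X.Modules := Functor.ofOpSequence (X := fun n => Formal.modPow I (n + 1) (T n)) d
  let q : ∀ n, T n ⟶ K.obj (op n) := q0
  have hqd : ∀ n, q (n + 1) ≫ tr1 K n = t (Nat.le_succ n) ≫ q n := fun n =>
    (congrArg (q (n + 1) ≫ ·) (Functor.ofOpSequence_map_homOfLE_succ
      (X := fun n => Formal.modPow I (n + 1) (T n)) d n)).trans (hd n)
  have hK1 : ∀ n, tr1 K n = d n := fun n => Functor.ofOpSequence_map_homOfLE_succ (X := fun n => Formal.modPow I (n + 1) (T n)) d n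
  have hqt : ∀ {a b : ℕ} (h : a ≤ b), q b ≫ trM K h = t h ≫ q a := by
    intro a b h
    induction b, h using Nat.le_induction with
    | base =>
      have e1 : trM K (le_refl a) = 𝟙 _ := K.map_id (op a)
      have e2 : t (le_refl a) = 𝟙 _ := by
        rw [← cancel_mono (ιT a), htι (le_refl a), Category.id_comp,
          show trM F (Nat.add_le_add_right (le_refl a) c) = 𝟙 _ from F.map_id (op (a + c)), Category.comp_id]
      rw [e1, e2, Category.id_comp]
      exact Category.comp_id _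
    | succ b hb ih =>
      rw [← htr K hb (Nat.le_succ b), ← Category.assoc, ← htt hb (Nat.le_succ b), Category.assoc (t (Nat.le_succ b)), ← ih,
        ← Category.assoc (t (Nat.le_succ b))]
      exact congrArg (· ≫ trM K hb) (hqd b)
  have hKc : ∀ n, Coh.IsCoh (K.obj (op n)) := fun n => by
    haveI : (∐ fun _ : ↥(I ^ (n + 1)) => T n).IsQuasicoherent := inferInstance
    exact isCoh_cokernel _ this (hTc n)
  haveI hKq : ∀ n, (K.obj (op n)).IsQuasicoherent := fun n => (hKc n).1
  have hqsurj : ∀ (W : X.affineOpens) (n : ℕ) (x : Γ(K.obj (op n), W.1)), ∃ z, (q n).app W.1 z = x :=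
    fun W n x => by
      haveI : Epi (q n) := Formal61.Sys.epi_modPowπ I (n + 1) (T n)
      haveI : (Formal.modPow I (n + 1) (T n)).IsQuasicoherent := hKq n
      exact QCoh.app_surjective_of_epi (q n) W.2 x
  -- the inclusion
  have hjnE : ∀ n, ∃ g : K.obj (op n) ⟶ F.obj (op n), q n ≫ g = ιT n ≫ trM F (Nat.le_add_right n c) :=
    fun n => (Formal61.Sys.isModQuot_modPowπ I (n + 1) (T n)).exists_desc_of_killedBy
      (ιT n ≫ trM F (Nat.le_add_right n c)) (hF.2.1 n)
  choose jn hjn using hjnE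
  let j : K ⟶ F := NatTrans.ofOpSequence jn fun n => by
    haveI : Epi (q (n + 1)) := Formal61.Sys.epi_modPowπ I (n + 1 + 1) (T (n + 1))
    refine (cancel_epi (q (n + 1))).1 ?_
    refine (Category.assoc _ _ _).symm.trans (Eq.trans ?_ (Category.assoc _ _ _))
    refine (congrArg (· ≫ jn n) (hqt (Nat.le_succ n))).trans ?_
    refine (Category.assoc _ _ _).trans ((congrArg (t (Nat.le_succ n) ≫ ·) (hjn n)).trans ?_)
    refine Eq.trans ?_ (congrArg (· ≫ _) (hjn (n + 1))).symm
    rw [← Category.assoc, htι (Nat.le_succ n), Category.assoc, htr, Category.assoc, htr]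
  have hjq : ∀ n, q n ≫ j.app (op n) = ιT n ≫ trM F (Nat.le_add_right n c) := hjn
  have hjα : j ≫ α = 0 := by
    refine NatTrans.ext (funext fun i => ?_)
    obtain ⟨n⟩ := i
    haveI : Epi (q n) := Formal61.Sys.epi_modPowπ I (n + 1) (T n)
    refine (cancel_epi (q n)).1 ((Category.assoc _ _ _).symm.trans ?_)
    show (q n ≫ j.app (op n)) ≫ α.app (op n) = q n ≫ 0
    rw [hjq, comp_zero, ← cancel_epi (Abelian.factorThruImage (ρ n)), comp_zero, ← Category.assoc,
      ← Category.assoc, Abelian.image.fac]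
    simp only [ρ, Category.assoc]
    rw [α.naturality, α.naturality_assoc, kernel.condition_assoc, zero_comp]
  have hKform : Formal.IsCohFormal I K := by
    refine ⟨hKc, fun n => Formal61.Sys.killedBy_modPow I (n + 1) (T n), fun n => ?_⟩
    show Formal61.Sys.IsModQuot (I ^ (n + 1)) (tr1 K n)
    haveI : Epi (tr1 K n) := by
      refine Abelian.epi_of_cokernel_π_eq_zero _ (QCohGen.Noeth.eq_zero_of_cover _ fun x => ?_)
      obtain ⟨W, hW, hxW⟩ := hσ x
      refine ⟨W, hxW, fun y => ?_⟩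
      obtain ⟨y', rfl⟩ := hqsurj W n y
      obtain ⟨z, rfl⟩ := htsurj W hW (Nat.le_succ n) y'
      rw [← FormalFun.app_comp (t (Nat.le_succ n)), ← hqt (Nat.le_succ n), FormalFun.app_comp, ← FormalFun.app_comp, cokernel.condition]
      rfl
    refine Formal61.Sys.IsModQuot.mk' ((Formal61.Sys.smulFamily_comp_eq_zero_iff _).1
      (Formal61.Sys.comp_eq_zero_of_killedBy (Formal61.Sys.killedBy_modPow I (n + 1) (T n)) _)) fun Z v hv => ?_
    obtain ⟨v', hv'⟩ := (Formal61.Sys.isModQuot_modPowπ I (n + 1) (K.obj (op (n + 1)))).exists_desc v hv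
    have hz : kernel.ι (tr1 K n) ≫ Formal.modPowπ I (n + 1) (K.obj (op (n + 1))) = 0 := by
      haveI := (isCoh_kernel (tr1 K n) (hKc (n + 1)) (hKc n).1).1
      refine QCohGen.Noeth.eq_zero_of_cover _ fun x => ?_
      obtain ⟨W, hW, hxW⟩ := hσ x
      refine ⟨W, hxW, fun w => ?_⟩
      obtain ⟨z, hzx⟩ := hqsurj W (n + 1) ((kernel.ι (tr1 K n)).app W.1 w)
      let J := I.map (FormalFun.gA (A := A) W.1)
      have h1 : (q n).app W.1 ((t (Nat.le_succ n)).app W.1 z) = 0 := by
        rw [← FormalFun.app_comp, ← hqt (Nat.le_succ n), FormalFun.app_comp, hzx, ← FormalFun.app_comp, kernel.condition]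
        rfl
      have h2 := (IdealQuot.modPowπ_app_eq_zero_iff I (n + 1) (T n) W.2 _).1 h1
      rw [← LinearMap.range_eq_top.mpr (show Function.Surjective (appLin (t (Nat.le_succ n)) W.1) from
        fun y => htsurj W hW (Nat.le_succ n) y), LinearMap.range_eq_map, ← Submodule.map_smul''] at h2
      obtain ⟨y, hy, hyz⟩ := h2
      have h3 : (ιT (n + 1)).app W.1 (z - y) ∈ J ^ (n + 1) • AffKer.Kc (fW F W.1) (φW W.1) (n + 1 + c) := by
        obtain ⟨g, hg, hg0, hgz⟩ := (hTmem W hW (n + 1) _).1 ⟨z - y, rfl⟩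
        rw [← hgz]
        refine (hcW W c (Finset.le_sup (f := cW) hW)).2 n g hg hg0 ?_ _
        rw [← compat_apply hg (Nat.add_le_add_right (Nat.le_succ n) c), hgz, ← FormalFun.app_comp, ← htι (Nat.le_succ n),
          FormalFun.app_comp, map_sub, show (t (Nat.le_succ n)).app W.1 y = (t (Nat.le_succ n)).app W.1 z from hyz,
          sub_self, map_zero]
      have h4 : z - y ∈ J ^ (n + 1) • (⊤ : Submodule Γ(X, W.1) Γ(T (n + 1), W.1)) := by
        have h5 : AffKer.Kc (fW F W.1) (φW W.1) (n + 1 + c) = (⊤ : Submodule _ _).map (appLin (ιT (n + 1)) W.1) := by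
          refine Submodule.ext fun x => (hTmem W hW (n + 1) x).symm.trans ?_
          exact ⟨fun ⟨y, hy⟩ => ⟨y, trivial, hy⟩, fun ⟨y, _, hy⟩ => ⟨y, hy⟩⟩
        rw [h5, ← Submodule.map_smul''] at h3
        obtain ⟨y', hy', hy''⟩ := h3
        rwa [QCoh.app_injective_of_mono (ιT (n + 1)) W.1 hy''] at hy'
      have h6 := Submodule.mem_map_of_mem (f := appLin (q (n + 1)) W.1)
        (show z ∈ J ^ (n + 1) • (⊤ : Submodule Γ(X, W.1) Γ(T (n + 1), W.1)) by
          rw [← sub_add_cancel z y]; exact add_mem h4 hy)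
      rw [Submodule.map_smul''] at h6
      rw [FormalFun.app_comp, ← hzx, IdealQuot.modPowπ_app_eq_zero_iff I (n + 1) _ W.2]
      exact Submodule.smul_mono le_rfl le_top h6
    refine ⟨Abelian.epiDesc (tr1 K n) _ hz ≫ v', ?_⟩
    rw [← Category.assoc, Abelian.comp_epiDesc, hv']
  refine ⟨K, j, hKform, hjα, fun H hH β hβ => ?_⟩
  let l : ∀ n, H.obj (op (n + c + c)) ⟶ K.obj (op n) := fun n =>
    kernel.lift _ (β.app (op (n + c + c))) (congrArg (fun φ => NatTrans.app φ (op (n + c + c))) hβ) ≫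
      Abelian.factorThruImage (ρ n) ≫ q n
  choose γ hγ using fun n => (Formal61.Sys.isModQuot_map hH.2.1 hH.2.2
    ((Nat.le_add_right n c).trans (Nat.le_add_right (n + c) c))).exists_desc_of_killedBy (l n)
    (hKform.2.1 n)
  let Γn : H ⟶ K := NatTrans.ofOpSequence γ fun n => by
    haveI : Epi (trM H ((Nat.le_add_right (n + 1) c).trans (Nat.le_add_right (n + 1 + c) c))) :=
      (Formal61.Sys.isModQuot_map hH.2.1 hH.2.2 _).epi
    refine (cancel_epi (trM H ((Nat.le_add_right (n + 1) c).trans (Nat.le_add_right (n + 1 + c) c)))).1 ?_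
    refine (Category.assoc _ _ _).symm.trans (Eq.trans ?_ (Category.assoc _ _ _))
    refine Eq.trans ?_ (congrArg (· ≫ _) (hγ (n + 1))).symm
    rw [show trM H ((Nat.le_add_right (n + 1) c).trans (Nat.le_add_right (n + 1 + c) c)) ≫
      H.map (homOfLE (Nat.le_add_right n 1)).op = trM H (show n + c + c ≤ n + 1 + c + c by omega) ≫
        trM H ((Nat.le_add_right n c).trans (Nat.le_add_right (n + c) c)) by rw [htr, htr]]
    refine (Category.assoc _ _ _).trans ((congrArg (_ ≫ ·) (hγ n)).trans ?_)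
    simp only [l]
    rw [Category.assoc, Category.assoc]
    refine Eq.trans ?_ (congrArg (fun φ => _ ≫ _ ≫ φ) (hqt (Nat.le_succ n))).symm
    simp only [← Category.assoc]
    refine congrArg (· ≫ q n) ?_
    rw [← cancel_mono (ιT n)]
    simp only [Category.assoc]
    rw [htι (Nat.le_succ n), Abelian.image.fac, ← Category.assoc (Abelian.factorThruImage (ρ (n + 1))), Abelian.image.fac]
    simp only [ρ, kernel.lift_ι_assoc, Category.assoc]
    rw [htr, ← Category.assoc, β.naturality, Category.assoc, htr]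
  refine ⟨Γn, NatTrans.ext (funext fun i => ?_), fun γ' hγ' => ?_⟩
  · obtain ⟨n⟩ := i
    haveI : Epi (trM H ((Nat.le_add_right n c).trans (Nat.le_add_right (n + c) c))) :=
      (Formal61.Sys.isModQuot_map hH.2.1 hH.2.2 _).epi
    refine (cancel_epi (trM H ((Nat.le_add_right n c).trans (Nat.le_add_right (n + c) c)))).1 ?_
    refine (Category.assoc _ _ _).symm.trans ((congrArg (· ≫ j.app (op n)) (hγ n)).trans ?_)
    simp only [l, Category.assoc]
    rw [hjq, β.naturality, ← Category.assoc (Abelian.factorThruImage (ρ n)), Abelian.image.fac]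
    simp only [ρ, kernel.lift_ι_assoc, Category.assoc]
    rw [htr]
  · -- uniqueness
    refine sub_eq_zero.1 (NatTrans.ext (funext fun i => ?_))
    obtain ⟨n⟩ := i
    have hd0 : (γ' - Γn) ≫ j = 0 := by
      rw [Preadditive.sub_comp, hγ', sub_eq_zero]
      refine NatTrans.ext (funext fun i => ?_)
      obtain ⟨m⟩ := i
      haveI : Epi (trM H ((Nat.le_add_right m c).trans (Nat.le_add_right (m + c) c))) :=
        (Formal61.Sys.isModQuot_map hH.2.1 hH.2.2 _).epi
      refine (cancel_epi (trM H ((Nat.le_add_right m c).trans (Nat.le_add_right (m + c) c)))).1 ?_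
      refine Eq.trans ?_ (((Category.assoc _ _ _).symm.trans (congrArg (· ≫ j.app (op m)) (hγ m))).symm)
      simp only [l, Category.assoc]
      rw [hjq, β.naturality, ← Category.assoc (Abelian.factorThruImage (ρ m)), Abelian.image.fac]
      simp only [ρ, kernel.lift_ι_assoc, Category.assoc]
      rw [htr]
    haveI : Epi (trM H (Nat.le_add_right n c)) := (Formal61.Sys.isModQuot_map hH.2.1 hH.2.2 _).epi
    refine (cancel_epi (trM H (Nat.le_add_right n c))).1 ?_
    show trM H (Nat.le_add_right n c) ≫ (γ' - Γn).app (op n) = trM H (Nat.le_add_right n c) ≫ 0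
    rw [(γ' - Γn).naturality, comp_zero]
    haveI := (hH.1 (n + c)).1
    refine QCohGen.Noeth.eq_zero_of_cover _ fun x => ?_
    obtain ⟨W, hW, hxW⟩ := hσ x
    refine ⟨W, hxW, fun h => ?_⟩
    obtain ⟨z, hz⟩ := hqsurj W (n + c) (((γ' - Γn).app (op (n + c))).app W.1 h)
    have h1 : (t (Nat.le_add_right n c)).app W.1 z = 0 := by
      refine QCoh.app_injective_of_mono (ιT n) W.1 ?_
      rw [map_zero, ← FormalFun.app_comp, htι (Nat.le_add_right n c), ← hjq, FormalFun.app_comp, hz, ← FormalFun.app_comp,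
        ← NatTrans.comp_app, hd0]
      rfl
    rw [FormalFun.app_comp, ← hz, ← FormalFun.app_comp, hqt, FormalFun.app_comp, h1, map_zero]

theorem hasKernels : HasKernels (Formal2.CohFormalCat I X) := ⟨fun {F G} f => by
  obtain ⟨K, j, hK, hj, huniv⟩ := exists_kernel F.property G.property f.hom
  let K' : Formal2.CohFormalCat I X := ⟨K, hK⟩
  choose l hl hu using fun (H : Formal2.CohFormalCat I X) (β : H ⟶ F) (hβ : β ≫ f = 0) =>
    huniv H.obj H.property β.hom (congrArg InducedCategory.Hom.hom hβ)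
  let j' : K' ⟶ F := ObjectProperty.homMk j
  exact HasLimit.mk ⟨KernelFork.ofι j' (ObjectProperty.hom_ext _ hj), KernelFork.IsLimit.ofι _ _
    (fun {H} β hβ => ObjectProperty.homMk (l H β hβ)) (fun {H} β hβ => ObjectProperty.hom_ext _ (hl H β hβ))
    fun {H} β hβ m hm => ObjectProperty.hom_ext _ (hu H β hβ m.hom (congrArg InducedCategory.Hom.hom hm))⟩⟩

end Groth.Agent.FormalTors.Kernel
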