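import Groth.Agent.FormalTors.Basic

/-!
# A formal module receiving a map with torsion kernel and cokernel from a completion is algebraizable
-/

set_option autoImplicit false

universe u

open CategoryTheory Limits AlgebraicGeometry Opposite TopologicalSpace
open Groth.Agent

noncomputable section

namespace Groth.Agent.FormalTors.Right

open FormalExist FormalExist.Tricky

variable {A : Type u} [CommRing A] {X : Scheme.{u}} [X.Over (Spec (CommRingCat.of A))] {I : Ideal A}

/-! ## Quasi-inverses -/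

/-- multiplication on a system -/
def smulT (F : ℕᵒᵖ ⥤ X.Modules) (r : A) : F ⟶ F where
  app i := Formal.smulMod A (F.obj i) r
  naturality _ _ f := (FormalFun.smulMod_natural (F.map f) r).symm

theorem smulT_add (F : ℕᵒᵖ ⥤ X.Modules) (r s : A) : smulT F (r + s) = smulT F r + smulT F s :=
  NatTrans.ext (funext fun i => FormalFun.smulMod_add (F.obj i) r s)

/-- the map between images -/
def imgMap {E F : ℕᵒᵖ ⥤ X.Modules} (α : E ⟶ F) {i j : ℕᵒᵖ} (f : i ⟶ j) :
    Abelian.image (α.app i) ⟶ Abelian.image (α.app j) :=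
  kernel.map _ _ (F.map f) (cokernel.map _ _ (E.map f) (F.map f) (α.naturality f).symm) (cokernel.π_desc _ _ _)

theorem imgMap_ι {E F : ℕᵒᵖ ⥤ X.Modules} (α : E ⟶ F) {i j : ℕᵒᵖ} (f : i ⟶ j) :
    imgMap α f ≫ Abelian.image.ι (α.app j) = Abelian.image.ι (α.app i) ≫ F.map f := kernel.lift_ι _ _ _

theorem factor_imgMap {E F : ℕᵒᵖ ⥤ X.Modules} (α : E ⟶ F) {i j : ℕᵒᵖ} (f : i ⟶ j) :
    Abelian.factorThruImage (α.app i) ≫ imgMap α f = E.map f ≫ Abelian.factorThruImage (α.app j) := by
  rw [← cancel_mono (Abelian.image.ι (α.app j)), Category.assoc, imgMap_ι, Category.assoc, Abelian.image.fac,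
    ← Category.assoc, Abelian.image.fac, α.naturality]

theorem exists_quasiInv {E F : ℕᵒᵖ ⥤ X.Modules} (α : E ⟶ F) {e : ℕ}
    (hker : ∀ n, Formal.KilledBy (I ^ e) (kernel (α.app (op n))))
    (hcok : ∀ n, Formal.KilledBy (I ^ e) (cokernel (α.app (op n)))) {r : A} (hr : r ∈ I ^ (e + e)) :
    ∃ θ : F ⟶ E, θ ≫ α = smulT F r ∧ α ≫ θ = smulT E r := by
  rw [pow_add] at hr
  refine Submodule.mul_induction_on hr (fun a ha b hb => ?_) fun r s ⟨θ, h1, h2⟩ ⟨θ', h1', h2'⟩ =>
    ⟨θ + θ', by rw [Preadditive.add_comp, h1, h1', smulT_add], by rw [Preadditive.comp_add, h2, h2', smulT_add]⟩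
  have hl : ∀ i, Formal.smulMod A (F.obj i) a ≫ cokernel.π (α.app i) = 0 := fun i => by
    rw [FormalFun.smulMod_natural, hcok i.unop a ha, comp_zero]
  have hd : ∀ i, kernel.ι (Abelian.factorThruImage (α.app i)) ≫ Formal.smulMod A (E.obj i) b = 0 := fun i => by
    have h0 : kernel.ι (Abelian.factorThruImage (α.app i)) ≫ α.app i = 0 :=
      (congrArg (kernel.ι (Abelian.factorThruImage (α.app i)) ≫ ·) (Abelian.image.fac (α.app i)).symm).trans
        ((kernel.condition_assoc _ _).trans zero_comp)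
    rw [← kernel.lift_ι (α.app i) (kernel.ι (Abelian.factorThruImage (α.app i))) h0, Category.assoc, ← FormalFun.smulMod_natural, hker i.unop b hb,
      zero_comp, comp_zero]
  let L : ∀ i, F.obj i ⟶ Abelian.image (α.app i) := fun i => kernel.lift _ _ (hl i)
  have hL : ∀ i, L i ≫ Abelian.image.ι (α.app i) = Formal.smulMod A (F.obj i) a := fun i => kernel.lift_ι _ _ _
  let D : ∀ i, Abelian.image (α.app i) ⟶ E.obj i := fun i => Abelian.epiDesc _ _ (hd i)
  have hD : ∀ i, Abelian.factorThruImage (α.app i) ≫ D i = Formal.smulMod A (E.obj i) b :=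
    fun i => Abelian.comp_epiDesc _ _ _
  have hDα : ∀ i, D i ≫ α.app i = Abelian.image.ι (α.app i) ≫ Formal.smulMod A (F.obj i) b := fun i => by
    rw [← cancel_epi (Abelian.factorThruImage (α.app i)), ← Category.assoc, hD, FormalFun.smulMod_natural,
      ← Category.assoc, Abelian.image.fac]
  have hαL : ∀ i, α.app i ≫ L i = Formal.smulMod A (E.obj i) a ≫ Abelian.factorThruImage (α.app i) := fun i => by
    rw [← cancel_mono (Abelian.image.ι (α.app i)), Category.assoc, hL, Category.assoc, Abelian.image.fac,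
      FormalFun.smulMod_natural]
  refine ⟨{ app := fun i => L i ≫ D i, naturality := fun i j f => ?_ }, ?_, ?_⟩
  · have h1 : F.map f ≫ L j = L i ≫ imgMap α f := by
      rw [← cancel_mono (Abelian.image.ι (α.app j)), Category.assoc, hL, Category.assoc, imgMap_ι,
        ← Category.assoc, hL, FormalFun.smulMod_natural]
    have h2 : imgMap α f ≫ D j = D i ≫ E.map f := by
      rw [← cancel_epi (Abelian.factorThruImage (α.app i)), ← Category.assoc, factor_imgMap, Category.assoc, hD,
        ← Category.assoc, hD, FormalFun.smulMod_natural]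
    rw [← Category.assoc, h1, Category.assoc, h2, Category.assoc]
  · refine NatTrans.ext (funext fun i => ?_)
    show (L i ≫ D i) ≫ α.app i = Formal.smulMod A (F.obj i) (a * b)
    rw [Category.assoc, hDα, ← Category.assoc, hL, mul_comm, CohIII.smulMod_mul]
  · refine NatTrans.ext (funext fun i => ?_)
    show α.app i ≫ L i ≫ D i = Formal.smulMod A (E.obj i) (a * b)
    rw [← Category.assoc, hαL, Category.assoc, hD, mul_comm, CohIII.smulMod_mul]

/-! ## Finitely many generators of the ideal sheaf -/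

variable [AlgebraicGeometry.IsNoetherian X]

theorem exists_gens (σ : Finset X.affineOpens) (I : Ideal A) (e : ℕ) :
    ∃ s : Finset A, (↑s : Set A) ⊆ ↑(I ^ e) ∧ ∀ W ∈ σ,
      (I ^ e).map (FormalFun.gA (A := A) W.1) = Ideal.span (FormalFun.gA (A := A) W.1 '' ↑s) := by
  classical
  have hgen : ∀ W : X.affineOpens, ∃ s : Finset A, (↑s : Set A) ⊆ ↑(I ^ e) ∧
      (I ^ e).map (FormalFun.gA (A := A) W.1) = Ideal.span (FormalFun.gA (A := A) W.1 '' ↑s) := fun W => by
    haveI : IsNoetherianRing Γ(X, W.1) := IsLocallyNoetherian.component_noetherian W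
    obtain ⟨t, ht, htspan⟩ := (Submodule.fg_span_iff_fg_span_finset_subset
      (R := Γ(X, W.1)) (FormalFun.gA (A := A) W.1 '' (↑(I ^ e) : Set A))).mp (IsNoetherian.noetherian _)
    obtain ⟨s, hs, rfl⟩ := Finset.subset_set_image_iff.mp ht
    exact ⟨s, hs, htspan.trans (by rw [Finset.coe_image])⟩
  choose sW hsW hspW using hgen
  have hsub : (↑(σ.biUnion sW) : Set A) ⊆ ↑(I ^ e) := fun a ha => by
    obtain ⟨W, -, hk⟩ := Finset.mem_biUnion.mp ha
    exact hsW W hk
  exact ⟨σ.biUnion sW, hsub, fun W hW => le_antisymm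
    ((hspW W).le.trans (Ideal.span_mono (Set.image_mono fun a ha => Finset.mem_biUnion.mpr ⟨W, hW, ha⟩)))
    (Ideal.span_le.mpr (by rintro _ ⟨a, ha, rfl⟩; exact Ideal.mem_map_of_mem _ (hsub ha)))⟩

theorem killedBy_of_gens {σ : Finset X.affineOpens} (hσ : ∀ x : X, ∃ W ∈ σ, x ∈ (W : X.Opens)) {e : ℕ}
    {s : Finset A} (hs : ∀ W ∈ σ,
      (I ^ e).map (FormalFun.gA (A := A) W.1) = Ideal.span (FormalFun.gA (A := A) W.1 '' ↑s))
    {P : X.Modules} (hP : Coh.IsCoh P) (h : ∀ a ∈ s, Formal.smulMod A P a = 0) : Formal.KilledBy (I ^ e) P := by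
  haveI := hP.1
  intro b hb
  refine QCohGen.Noeth.eq_zero_of_cover _ fun x => ?_
  obtain ⟨W, hW, hxW⟩ := hσ x
  refine ⟨W, hxW, fun m => ?_⟩
  rw [FormalFun.smulMod_app]
  have hr : FormalFun.gA (A := A) W.1 b ∈ (I ^ e).map (FormalFun.gA (A := A) W.1) := Ideal.mem_map_of_mem _ hb
  generalize FormalFun.gA (A := A) W.1 b = r at hr
  rw [hs W hW] at hr
  induction hr using Submodule.span_induction with
  | mem r hr =>
    obtain ⟨a, ha, rfl⟩ := hr
    rw [← FormalFun.smulMod_app P a W.1 m, h a ha]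
    rfl
  | zero => exact zero_smul _ _
  | add r s _ _ hr hs => rw [add_smul, hr, hs, add_zero]
  | smul c r _ hr => rw [smul_eq_mul, mul_smul, hr, smul_zero]

/-! ## Artin–Rees on a finite cover -/

theorem exists_ar (σ : Finset X.affineOpens) {P H : X.Modules} (hP : Coh.IsCoh P) (ι : H ⟶ P) [Mono ι]
    (hH : Coh.IsCoh H) (I : Ideal A) :
    ∃ c, ∀ W ∈ σ, ∀ (n : ℕ) (x : Γ(H, W.1)), (cπ I P (n + c)).app W.1 (ι.app W.1 x) = 0 →
      (cπ I H n).app W.1 x = 0 := by
  classical
  haveI := hP.1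
  haveI := hH.1
  haveI : SheafOfModules.IsFiniteType.{u} P := hP.2
  have key : ∀ W : X.affineOpens, ∃ c, ∀ c', c ≤ c' → ∀ (n : ℕ) (x : Γ(H, W.1)),
      (cπ I P (n + c')).app W.1 (ι.app W.1 x) = 0 → (cπ I H n).app W.1 x = 0 := fun W => by
    haveI : IsNoetherianRing Γ(X, W.1) := IsLocallyNoetherian.component_noetherian W
    haveI := QCoh.finite_sections_of_isFiniteType P W.2
    let L : Γ(H, W.1) →ₗ[Γ(X, W.1)] Γ(P, W.1) :=
      { toFun := ι.app W.1, map_add' := map_add _, map_smul' := fun a x => Scheme.Modules.Hom.app_smul ι a x }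
    let J := I.map (FormalFun.gA (A := A) W.1)
    obtain ⟨c, hc⟩ := J.exists_pow_inf_eq_pow_smul (LinearMap.range L)
    refine ⟨c, fun c' hc' n x hx => ?_⟩
    have h1 := (hc (n + c' + 1) (by omega)).le ⟨(cπ_app_eq_zero_iff P _ W _).1 hx, LinearMap.mem_range_self L x⟩
    have h2 := Submodule.smul_mono (Ideal.pow_le_pow_right (show n + 1 ≤ n + c' + 1 - c by omega)) inf_le_right h1
    rw [LinearMap.range_eq_map, ← Submodule.map_smul''] at h2
    obtain ⟨z, hz, hzx⟩ := h2
    rw [← QCoh.app_injective_of_mono ι W.1 hzx]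
    exact (cπ_app_eq_zero_iff H n W z).2 hz
  choose cW hcW using key
  exact ⟨σ.sup cW, fun W hW => hcW W _ (Finset.le_sup hW)⟩

/-! ## Lifting maps into the completion of a submodule -/

theorem exists_lift {P H : X.Modules} (hP : Coh.IsCoh P) (hH : Coh.IsCoh H) (ι : H ⟶ P) [Mono ι]
    {σ : Finset X.affineOpens} (hσ : ∀ x : X, ∃ W ∈ σ, x ∈ (W : X.Opens))
    {F : ℕᵒᵖ ⥤ X.Modules} (hF : Formal.IsCohFormal I F) (β : F ⟶ Formal.completion I P) (c' : ℕ)
    (hz : ∀ n, trM F (Nat.le_add_right n c') ≫ β.app (op n) ≫ cokernel.π ((cmap I ι).app (op n)) = 0) :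
    ∃ γ : F ⟶ Formal.completion I H, γ ≫ cmap I ι = β ∧
      ∀ (E : ℕᵒᵖ ⥤ X.Modules) (η : E ⟶ Formal.completion I H) (ζ : E ⟶ F),
        (∀ n m (h : n ≤ m), Epi (trM E h)) → η ≫ cmap I ι = ζ ≫ β → ζ ≫ γ = η := by
  haveI := hP.1
  haveI := hH.1
  obtain ⟨c, hc⟩ := exists_ar σ hP ι hH I
  let u : Formal.completion I H ⟶ Formal.completion I P := cmap I ι
  have hdie : ∀ n, kernel.ι (u.app (op (n + c))) ≫ trM (Formal.completion I H) (Nat.le_add_right n c) = 0 := by
    intro n
    have hCH := (isCohFormal_completion' (I := I) hH).1 (n + c)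
    have hCP := (isCohFormal_completion' (I := I) hP).1 (n + c)
    haveI := hCH.1
    haveI := (CohDev.isCoh_kernel (u.app (op (n + c))) hCH hCP.1).1
    refine QCohGen.Noeth.eq_zero_of_cover _ fun x => ?_
    obtain ⟨W, hW, hxW⟩ := hσ x
    refine ⟨W, hxW, fun w => ?_⟩
    obtain ⟨y, hy⟩ := QCoh.app_surjective_of_epi (cπ I H (n + c)) W.2
      ((kernel.ι (u.app (op (n + c)))).app W.1 w)
    rw [FormalFun.app_comp, ← hy, ← FormalFun.app_comp, cπ_trM]
    refine hc W hW n y ?_
    rw [← FormalFun.app_comp, ← cπ_cmap, FormalFun.app_comp, hy, ← FormalFun.app_comp, kernel.condition]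
    rfl
  have hT : ∀ n, kernel.ι (Abelian.factorThruImage (u.app (op (n + c)))) ≫
      trM (Formal.completion I H) (Nat.le_add_right n c) = 0 := fun n => by
    rw [← kernel.lift_ι (u.app (op (n + c))) (kernel.ι (Abelian.factorThruImage (u.app (op (n + c))))) (by
      conv_lhs => arg 2; rw [← Abelian.image.fac (u.app (op (n + c)))]
      rw [kernel.condition_assoc, zero_comp]), Category.assoc, hdie, comp_zero]
  let T : ∀ n, Abelian.image (u.app (op (n + c))) ⟶ (Formal.completion I H).obj (op n) :=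
    fun n => Abelian.epiDesc _ _ (hT n)
  have hTf : ∀ n, Abelian.factorThruImage (u.app (op (n + c))) ≫ T n =
      trM (Formal.completion I H) (Nat.le_add_right n c) := fun n => Abelian.comp_epiDesc _ _ _
  let l : ∀ m, F.obj (op (m + c')) ⟶ Abelian.image (u.app (op m)) := fun m =>
    kernel.lift _ (trM F (Nat.le_add_right m c') ≫ β.app (op m)) (by rw [Category.assoc]; exact hz m)
  have hl : ∀ m, l m ≫ Abelian.image.ι (u.app (op m)) = trM F (Nat.le_add_right m c') ≫ β.app (op m) :=
    fun m => kernel.lift_ι _ _ _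
  have htr : ∀ {a b d : ℕ} (G : ℕᵒᵖ ⥤ X.Modules) (h : a ≤ b) (h' : b ≤ d),
      trM G h' ≫ trM G h = trM G (h.trans h') := fun {a b d} G h h' => by
    rw [← G.map_comp, ← op_comp, homOfLE_comp]
  choose g hg using fun n => (Formal61.Sys.isModQuot_map hF.2.1 hF.2.2
    ((Nat.le_add_right n c).trans (Nat.le_add_right (n + c) c'))).exists_desc_of_killedBy (l (n + c) ≫ T n)
    (Formal61.Sys.killedBy_modPow I (n + 1) H)
  have hgu : ∀ n, g n ≫ u.app (op n) = β.app (op n) := fun n => by
    haveI : Epi (trM F ((Nat.le_add_right n c).trans (Nat.le_add_right (n + c) c'))) :=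
      (Formal61.Sys.isModQuot_map hF.2.1 hF.2.2 _).epi
    rw [← cancel_epi (trM F ((Nat.le_add_right n c).trans (Nat.le_add_right (n + c) c'))), ← Category.assoc]
    refine (congrArg (· ≫ u.app (op n)) (hg n)).trans ?_
    have h1 : T n ≫ u.app (op n) =
        Abelian.image.ι (u.app (op (n + c))) ≫ trM (Formal.completion I P) (Nat.le_add_right n c) := by
      rw [← cancel_epi (Abelian.factorThruImage (u.app (op (n + c)))), ← Category.assoc, hTf,
        ← Category.assoc (Abelian.factorThruImage _), Abelian.image.fac]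
      exact u.naturality _
    rw [Category.assoc, h1, ← Category.assoc, hl, Category.assoc, ← β.naturality, ← Category.assoc, htr]
  refine ⟨NatTrans.ofOpSequence g fun n => ?_, NatTrans.ext (funext fun i => hgu i.unop), fun E η ζ hE hη => ?_⟩
  · have hle : n + c ≤ n + 1 + c := by omega
    have hle2 : n + c + c' ≤ n + 1 + c + c' := by omega
    haveI : Epi (trM F ((Nat.le_add_right (n + 1) c).trans (Nat.le_add_right (n + 1 + c) c'))) :=
      (Formal61.Sys.isModQuot_map hF.2.1 hF.2.2 _).epi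
    rw [← cancel_epi (trM F ((Nat.le_add_right (n + 1) c).trans (Nat.le_add_right (n + 1 + c) c')))]
    refine (Category.assoc _ _ _).symm.trans ?_
    refine Eq.trans ?_ ((congrArg (· ≫ tr1 (Formal.completion I H) n) (hg (n + 1))).symm.trans (Category.assoc _ _ _))
    have h1 : l (n + 1 + c) ≫ imgMap u (homOfLE hle).op = trM F hle2 ≫ l (n + c) := by
      rw [← cancel_mono (Abelian.image.ι (u.app (op (n + c)))), Category.assoc, imgMap_ι, ← Category.assoc, hl,
        Category.assoc, ← β.naturality, ← Category.assoc, htr, Category.assoc, hl, ← Category.assoc, htr]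
    have h2 : T (n + 1) ≫ tr1 (Formal.completion I H) n = imgMap u (homOfLE hle).op ≫ T n := by
      rw [← cancel_epi (Abelian.factorThruImage (u.app (op (n + 1 + c)))), ← Category.assoc, hTf, htr,
        ← Category.assoc, factor_imgMap, Category.assoc, hTf, htr]
    refine Eq.trans ?_ (Category.assoc _ _ _).symm
    rw [h2, ← Category.assoc (l _), h1, Category.assoc (trM F hle2), ← hg n, ← Category.assoc, htr, htr]
  · refine NatTrans.ext (funext fun i => ?_)
    obtain ⟨n⟩ := i
    show ζ.app (op n) ≫ g n = η.app (op n)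
    let h0 := (Nat.le_add_right n c).trans (Nat.le_add_right (n + c) c')
    haveI := hE _ _ h0
    rw [← cancel_epi (trM E h0), ← Category.assoc, ζ.naturality, Category.assoc]
    refine (congrArg (ζ.app _ ≫ ·) (hg n)).trans ?_
    have h1 : ζ.app (op (n + c + c')) ≫ l (n + c) =
        trM E (Nat.le_add_right (n + c) c') ≫ η.app (op (n + c)) ≫ Abelian.factorThruImage (u.app (op (n + c))) := by
      rw [← cancel_mono (Abelian.image.ι (u.app (op (n + c)))), Category.assoc, hl, Category.assoc, Category.assoc,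
        Abelian.image.fac, show η.app (op (n + c)) ≫ u.app (op (n + c)) = ζ.app (op (n + c)) ≫ β.app (op (n + c))
          from congrArg (fun φ => NatTrans.app φ (op (n + c))) hη, ← Category.assoc, ← Category.assoc,
        ζ.naturality]
    rw [← Category.assoc, h1, Category.assoc, Category.assoc, hTf, ← η.naturality, ← Category.assoc, htr]

/-! ## Lifting to the module -/

omit [AlgebraicGeometry.IsNoetherian X] in
theorem cmap_id_app (Z : X.Modules) (n : ℕ) : (cmap I (𝟙 Z)).app (op n) = 𝟙 _ := by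
  rw [← cancel_epi (cπ I Z n), cπ_cmap, Category.id_comp, Category.comp_id]

/-- A map of completions which is algebraic after composing with a map with torsion kernel and cokernel is
algebraic. -/
theorem exists_hom_of_comp {G M H : X.Modules} (hG : Coh.IsCoh G) (hM : Coh.IsCoh M) (hH : Coh.IsCoh H)
    (aM : M ⟶ H) {e : ℕ} (hker : Formal.KilledBy (I ^ e) (kernel aM))
    (hcok : Formal.KilledBy (I ^ e) (cokernel aM)) (δ : G ⟶ H)
    (τ : Formal.completion I G ⟶ Formal.completion I M) (hτ : τ ≫ cmap I aM = cmap I δ) :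
    ∃ φ : G ⟶ M, φ ≫ aM = δ ∧ ∀ n, φ ≫ cπ I M n = cπ I G n ≫ τ.app (op n) := by
  haveI := hG.1
  haveI := hM.1
  haveI := hH.1
  haveI : SheafOfModules.IsFiniteType.{u} M := hM.2
  obtain ⟨σ, hσ⟩ := exists_finite_cover X
  have hK := CohDev.isCoh_kernel aM hM hH.1
  haveI := hK.1
  obtain ⟨c, hc⟩ := exists_ar σ hM (kernel.ι aM) hK I
  haveI isoK : IsIso (cπ I (kernel aM) e) := (Formal61.Sys.isModQuot_modPowπ I (e + 1) (kernel aM)).isIso
    (Formal61.Sys.killedBy_mono (Ideal.pow_le_pow_right (Nat.le_succ e)) hker)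
  have key : ∀ N, e + c ≤ N → ∃ φ : G ⟶ M, φ ≫ aM = δ ∧ φ ≫ cπ I M N = cπ I G N ≫ τ.app (op N) := by
    intro N hN
    have hMN := (isCohFormal_completion' (I := I) hM).1 N
    haveI := hMN.1
    let Q := H ⊞ (Formal.completion I M).obj (op N)
    have hQ : Coh.IsCoh Q := CohDev.isCoh_biprod hH hMN
    haveI := hQ.1
    let ι : M ⟶ Q := biprod.lift aM (cπ I M N)
    haveI : Mono ι := by
      refine Abelian.mono_of_kernel_ι_eq_zero _ ?_
      have hKι := CohDev.isCoh_kernel ι hM hQ.1
      haveI := hKι.1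
      refine QCohGen.Noeth.eq_zero_of_cover _ fun x => ?_
      obtain ⟨W, hW, hxW⟩ := hσ x
      refine ⟨W, hxW, fun w => ?_⟩
      let y := (kernel.ι ι).app W.1 w
      have h0 : ι.app W.1 y = 0 := by rw [← FormalFun.app_comp, kernel.condition]; rfl
      have h1 : aM.app W.1 y = 0 := by
        rw [← biprod.lift_fst aM (cπ I M N), FormalFun.app_comp, h0, map_zero]
      have h2 : (cπ I M N).app W.1 y = 0 := by
        rw [← biprod.lift_snd aM (cπ I M N), FormalFun.app_comp, h0, map_zero]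
      obtain ⟨z, hz⟩ := exists_app_eq_of_kernel aM W.1 y h1
      have h3 : (cπ I M (e + c)).app W.1 y = 0 := by
        rw [← cπ_trM M hN, FormalFun.app_comp, h2, map_zero]
      have h4 := hc W hW e z (hz.symm ▸ h3)
      have h5 : z = 0 := QCoh.app_injective_of_mono (cπ I (kernel aM) e) W.1 (h4.trans (map_zero _).symm)
      show y = 0
      rw [← hz, h5, map_zero]
    have hC : Coh.IsCoh (cokernel ι) := CohDev.isCoh_cokernel ι hM.1 hQ
    have hCk : Formal.KilledBy (I ^ (e + (N + 1))) (cokernel ι) := by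
      refine Base.killedBy_of_killed hC.1 fun W r hr y => ?_
      haveI := hC.1
      obtain ⟨q, rfl⟩ := QCoh.app_surjective_of_epi (cokernel.π ι) W.2 y
      have hA := Base.killed_of_killedBy hcok
      have hB := Base.killed_of_killedBy (Formal61.Sys.killedBy_modPow I (N + 1) M)
      simp only [Scheme.IdealSheafData.ideal_pow, Pi.pow_apply, pow_add _ e (N + 1)] at hr
      refine Submodule.mul_induction_on hr (fun b₁ hb₁ b₂ hb₂ => ?_) fun s t hs ht => by
        rw [add_smul, hs, ht, add_zero]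
      obtain ⟨m, hm⟩ := exists_app_eq_of_cokernel aM hM hH W (b₁ • (biprod.fst : Q ⟶ H).app W.1 q) (by
        rw [Scheme.Modules.Hom.app_smul]
        exact hA W b₁ (by simpa [Scheme.IdealSheafData.ideal_pow] using hb₁) _)
      have h2 : b₂ • (b₁ • q - ι.app W.1 m) = 0 := by
        have htot : (biprod.fst : Q ⟶ H) ≫ biprod.inl + biprod.snd ≫ biprod.inr = 𝟙 Q := biprod.total
        have hd : ∀ x : Γ(Q, W.1), (biprod.inl : H ⟶ Q).app W.1 ((biprod.fst : Q ⟶ H).app W.1 x) +
            (biprod.inr : _ ⟶ Q).app W.1 ((biprod.snd : Q ⟶ _).app W.1 x) = x := fun x => by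
          rw [← FormalFun.app_comp, ← FormalFun.app_comp]
          exact congrArg (fun φ => Scheme.Modules.Hom.app φ W.1 x) htot
        have hfst : (biprod.fst : Q ⟶ H).app W.1 (b₁ • q - ι.app W.1 m) = 0 := by
          rw [map_sub, Scheme.Modules.Hom.app_smul, ← FormalFun.app_comp ι, biprod.lift_fst, hm, sub_self]
        rw [← hd (b₁ • q - ι.app W.1 m), hfst, map_zero, zero_add, ← Scheme.Modules.Hom.app_smul]
        exact (congrArg _ (hB W b₂ (by simpa [Scheme.IdealSheafData.ideal_pow] using hb₂) _)).trans (map_zero _)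
      rw [smul_sub, sub_eq_zero] at h2
      rw [mul_comm, mul_smul]
      refine (congrArg (b₂ • ·) (Scheme.Modules.Hom.app_smul _ _ _).symm).trans
        ((Scheme.Modules.Hom.app_smul _ _ _).symm.trans ?_)
      rw [h2]
      rw [← Scheme.Modules.Hom.app_smul, ← FormalFun.app_comp, cokernel.condition]
      rfl
    let f : G ⟶ Q := biprod.lift δ (cπ I G N ≫ τ.app (op N))
    have hf0 : f ≫ cokernel.π ι = 0 := by
      refine (existsUnique_of_target hCk (0 : Formal.completion I G ⟶ Formal.completion I (cokernel ι))).unique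
        (fun n => ?_) (fun n => by rw [zero_comp]; exact comp_zero)
      refine Eq.trans comp_zero ?_
      show 0 = (f ≫ cokernel.π ι) ≫ cπ I (cokernel ι) n
      let m := max n N
      rw [← cπ_trM (cokernel ι) (le_max_left n N)]
      have key : f ≫ cπ I Q m = cπ I G m ≫ τ.app (op m) ≫ (cmap I ι).app (op m) := by
        have htot : (cmap I (biprod.fst : Q ⟶ H)).app (op m) ≫ (cmap I (biprod.inl : H ⟶ Q)).app (op m) +
            (cmap I (biprod.snd : Q ⟶ _)).app (op m) ≫ (cmap I (biprod.inr : _ ⟶ Q)).app (op m) = 𝟙 _ := by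
          rw [cmap_comp_app, cmap_comp_app, ← cancel_epi (cπ I Q m), Preadditive.comp_add, cπ_cmap, cπ_cmap,
            Category.comp_id, ← Preadditive.add_comp, biprod.total, Category.id_comp]
        rw [← Category.comp_id (f ≫ cπ I Q m), ← Category.comp_id (cπ I G m ≫ _), ← htot, Preadditive.comp_add,
          Preadditive.comp_add]
        congr 1
        · rw [← Category.assoc, ← Category.assoc (cπ I G m ≫ _)]
          refine congrArg (· ≫ (cmap I (biprod.inl : H ⟶ Q)).app (op m)) ?_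
          rw [Category.assoc, cπ_cmap, ← Category.assoc f, biprod.lift_fst, Category.assoc, Category.assoc,
            cmap_comp_app, biprod.lift_fst, ← cπ_cmap]
          exact congrArg (cπ I G m ≫ ·) (congrArg (fun φ => NatTrans.app φ (op m)) hτ).symm
        · rw [← Category.assoc, ← Category.assoc (cπ I G m ≫ _)]
          refine congrArg (· ≫ (cmap I (biprod.inr : _ ⟶ Q)).app (op m)) ?_
          have hN' : (cmap I (cπ I M N)).app (op m) = trM (Formal.completion I M) (le_max_right n N) ≫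
              cπ I ((Formal.completion I M).obj (op N)) m := by
            rw [← cancel_epi (cπ I M m), cπ_cmap, ← Category.assoc, cπ_trM]
          rw [Category.assoc, cπ_cmap, ← Category.assoc f, biprod.lift_snd]
          simp only [Category.assoc]
          rw [cmap_comp_app, biprod.lift_snd, hN', ← Category.assoc (τ.app _), ← τ.naturality, Category.assoc,
            ← Category.assoc (cπ I G m), cπ_trM]
      have h2 : (f ≫ cokernel.π ι) ≫ cπ I (cokernel ι) m = 0 := by
        rw [Category.assoc, ← cπ_cmap, ← Category.assoc, key, Category.assoc, Category.assoc, cmap_comp_app,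
          cokernel.condition, show (cmap I (0 : M ⟶ cokernel ι)).app (op m) = 0 by
            rw [← cancel_epi (cπ I M m), cπ_cmap, zero_comp, comp_zero], comp_zero, comp_zero]
      rw [← Category.assoc, h2, zero_comp]
    refine ⟨Abelian.monoLift ι f hf0, ?_, ?_⟩
    · rw [← biprod.lift_fst aM (cπ I M N), ← Category.assoc, Abelian.monoLift_comp, biprod.lift_fst]
    · rw [← biprod.lift_snd aM (cπ I M N), ← Category.assoc, Abelian.monoLift_comp, biprod.lift_snd]
  choose φ hφ₁ hφ₂ using key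
  refine ⟨φ (e + c) le_rfl, hφ₁ _ _, fun n => ?_⟩
  have hle : e + c ≤ max n (e + c) := le_max_right _ _
  have heq : φ _ hle = φ (e + c) le_rfl := by
    rw [← sub_eq_zero]
    refine QCohGen.Noeth.eq_zero_of_cover _ fun x => ?_
    obtain ⟨W, hW, hxW⟩ := hσ x
    refine ⟨W, hxW, fun w => ?_⟩
    have h1 : (φ _ hle - φ (e + c) le_rfl) ≫ aM = 0 := by rw [Preadditive.sub_comp, hφ₁, hφ₁, sub_self]
    have h2 : (φ _ hle - φ (e + c) le_rfl) ≫ cπ I M (e + c) = 0 := by
      rw [Preadditive.sub_comp, hφ₂, sub_eq_zero]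
      rw [← cπ_trM M hle, ← Category.assoc, hφ₂, Category.assoc, ← τ.naturality, ← Category.assoc, cπ_trM]
    obtain ⟨z, hz⟩ := exists_app_eq_of_kernel aM W.1 ((φ _ hle - φ (e + c) le_rfl).app W.1 w) (by
      rw [← FormalFun.app_comp, h1]; rfl)
    have h4 := hc W hW e z (by rw [hz, ← FormalFun.app_comp, h2]; rfl)
    rw [← hz, show z = 0 from QCoh.app_injective_of_mono (cπ I (kernel aM) e) W.1 (h4.trans (map_zero _).symm),
      map_zero]
  rw [← heq, ← cπ_trM M (le_max_left n (e + c)), ← Category.assoc, hφ₂, Category.assoc, ← τ.naturality,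
    ← Category.assoc, cπ_trM]

/-! ## The theorem -/

theorem biprod_total' {κ : Type u} [Fintype κ] [DecidableEq κ] (G : X.Modules) :
    ∑ k, biproduct.π (fun _ : κ => G) k ≫ biproduct.ι (fun _ : κ => G) k = 𝟙 _ := by
  refine biproduct.hom_ext' _ _ fun j => ?_
  rw [Category.comp_id, Preadditive.comp_sum, Finset.sum_eq_single j
    (fun k _ hk => by rw [biproduct.ι_π_ne_assoc _ (Ne.symm hk), zero_comp]) (by simp),
    biproduct.ι_π_self_assoc]

theorem eq_zero_of_π {κ : Type u} [Fintype κ] {G : X.Modules} (W : X.Opens)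
    (y : Γ(⨁ fun _ : κ => G, W)) (h : ∀ k, (biproduct.π (fun _ : κ => G) k).app W y = 0) : y = 0 := by
  classical
  refine Eq.trans (congrArg (fun φ => Scheme.Modules.Hom.app φ W y) (biprod_total' (κ := κ) G)).symm ?_
  refine (map_sum (AddMonoidHom.mk' (fun φ : (⨁ fun _ : κ => G) ⟶ _ => φ.app W y) (fun φ φ' => rfl)) _ _).trans
    (Finset.sum_eq_zero fun k _ => ?_)
  show Scheme.Modules.Hom.app (biproduct.π (fun _ : κ => G) k ≫ biproduct.ι (fun _ : κ => G) k) W y = 0
  rw [FormalFun.app_comp, h k, map_zero]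

theorem main {G : X.Modules} (hG : Coh.IsCoh G) {F : ℕᵒᵖ ⥤ X.Modules} (hF : Formal.IsCohFormal I F)
    (α : Formal.completion I G ⟶ F) {e : ℕ}
    (hker : ∀ n, Formal.KilledBy (I ^ e) (kernel (α.app (op n))))
    (hcok : ∀ n, Formal.KilledBy (I ^ e) (cokernel (α.app (op n)))) :
    ∃ (F' : X.Modules) (a : G ⟶ F') (β : Formal.completion I F' ≅ F), Coh.IsCoh F' ∧
      Formal2.KerCokerKilledByIPowHom I a ∧
      ∀ n : ℕ, Formal.modPowπ I (n + 1) G ≫ α.app (op n) = a ≫ Formal.modPowπ I (n + 1) F' ≫ β.hom.app (op n) := by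
  classical
  haveI := hG.1
  obtain ⟨σ, hσ⟩ := exists_finite_cover X
  let s := e + e
  obtain ⟨S, hS, hSspan⟩ := exists_gens σ I s
  choose θ hθ₁ hθ₂ using fun k : ↥S => exists_quasiInv α hker hcok (hS k.2)
  let P := ⨁ fun _ : ↥S => G
  let Δ : G ⟶ P := biproduct.lift fun k => Formal.smulMod A G k.1
  have hΔ : Δ = ∑ k, Formal.smulMod A G (k : ↥S).1 ≫ biproduct.ι (fun _ : ↥S => G) k := by
    refine biproduct.hom_ext _ _ fun j => ?_
    rw [biproduct.lift_π, Preadditive.sum_comp, Finset.sum_eq_single j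
      (fun k _ hk => by rw [Category.assoc, biproduct.ι_π_ne _ hk, comp_zero]) (by simp),
      Category.assoc, biproduct.ι_π_self, Category.comp_id]
  haveI hPq : P.IsQuasicoherent := inferInstance
  have hP : Coh.IsCoh P := by
    refine ⟨hPq, QCoh.isFiniteType_of_forall_exists _ fun x => ?_⟩
    obtain ⟨W, hW, hx, -⟩ := exists_isAffineOpen_mem_and_subset (X := X) (Opens.mem_top x)
    refine ⟨W, hW, hx, ?_⟩
    haveI : IsNoetherianRing Γ(X, W) := IsLocallyNoetherian.component_noetherian ⟨W, hW⟩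
    haveI : SheafOfModules.IsFiniteType.{u} G := hG.2
    haveI := QCoh.finite_sections_of_isFiniteType G hW
    refine Module.Finite.of_injective
      (LinearMap.pi fun k : ↥S =>
        ({ toFun := (biproduct.π (fun _ : ↥S => G) k).app W
           map_add' := map_add _
           map_smul' := fun a x => Scheme.Modules.Hom.app_smul _ a x } : Γ(P, W) →ₗ[Γ(X, W)] Γ(G, W)))
      ((injective_iff_map_eq_zero _).2 fun y hy => eq_zero_of_π W y fun k => congrFun hy k)
  let C := cokernel Δ
  have hC : Coh.IsCoh C := CohDev.isCoh_cokernel Δ hG.1 hP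
  haveI := hC.1
  let d : P ⟶ ⨁ fun _ : ↥S => C := biproduct.lift fun l => cokernel.π Δ ≫ Formal.smulMod A C l.1
  let H := kernel d
  have hH : Coh.IsCoh H := CohDev.isCoh_kernel d hP inferInstance
  haveI := hH.1
  have hδ0 : Δ ≫ d = 0 := biproduct.hom_ext _ _ fun l => by
    rw [Category.assoc, biproduct.lift_π, cokernel.condition_assoc, zero_comp, zero_comp]
  let δ : G ⟶ H := kernel.lift d Δ hδ0
  have hδι : δ ≫ kernel.ι d = Δ := kernel.lift_ι _ _ _
  let β : F ⟶ Formal.completion I P := ∑ k, θ k ≫ cmap I (biproduct.ι (fun _ : ↥S => G) k)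
  have happ : ∀ (n : ℕ) (f : ↥S → (F ⟶ Formal.completion I P)), (∑ k, f k).app (op n) = ∑ k, (f k).app (op n) :=
    fun n f => map_sum (AddMonoidHom.mk' (fun φ : F ⟶ Formal.completion I P => φ.app (op n)) fun φ φ' => rfl) _ _
  have hαβ : ∀ n, α.app (op n) ≫ β.app (op n) = (cmap I Δ).app (op n) := fun n => by
    rw [← cancel_epi (cπ I G n), cπ_cmap, hΔ, happ, Preadditive.comp_sum, Preadditive.comp_sum,
      Preadditive.sum_comp]
    refine Finset.sum_congr rfl fun k _ => ?_
    rw [NatTrans.comp_app, ← Category.assoc (α.app (op n)),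
      show α.app (op n) ≫ (θ k).app (op n) = Formal.smulMod A _ k.1 from
        congrArg (fun φ => NatTrans.app φ (op n)) (hθ₂ k),
      ← Category.assoc, ← FormalFun.smulMod_natural, Category.assoc, cπ_cmap, Category.assoc]
  have hβπ : ∀ n (k : ↥S), β.app (op n) ≫ (cmap I (biproduct.π (fun _ : ↥S => G) k)).app (op n) =
      (θ k).app (op n) := fun n k => by
    rw [happ, Preadditive.sum_comp, Finset.sum_eq_single k (fun j _ hj => ?_) (by simp)]
    · rw [NatTrans.comp_app, Category.assoc, cmap_comp_app, biproduct.ι_π_self, cmap_id_app, Category.comp_id]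
    · rw [NatTrans.comp_app, Category.assoc, cmap_comp_app, biproduct.ι_π_ne _ hj,
        show (cmap I (0 : G ⟶ G)).app (op n) = 0 by
          rw [← cancel_epi (cπ I G n), cπ_cmap, zero_comp, comp_zero], comp_zero]
  -- the components land in `H`
  have hAR : ∀ W : X.affineOpens, ∃ c, ∀ c', c ≤ c' → ∀ (n : ℕ) (z : Γ(C, W.1)),
      (∀ l : ↥S, FormalFun.gA (A := A) W.1 l.1 • z ∈ (I.map (FormalFun.gA (A := A) W.1)) ^ (n + c' + 1) •
        (⊤ : Submodule Γ(X, W.1) Γ(C, W.1))) →
      ∃ z' ∈ (I.map (FormalFun.gA (A := A) W.1)) ^ (n + 1) • (⊤ : Submodule Γ(X, W.1) Γ(C, W.1)),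
        ∀ l : ↥S, FormalFun.gA (A := A) W.1 l.1 • (z - z') = 0 := fun W => by
    haveI : IsNoetherianRing Γ(X, W.1) := IsLocallyNoetherian.component_noetherian W
    haveI : SheafOfModules.IsFiniteType.{u} C := hC.2
    haveI := QCoh.finite_sections_of_isFiniteType C W.2
    let J := I.map (FormalFun.gA (A := A) W.1)
    let L : Γ(C, W.1) →ₗ[Γ(X, W.1)] (↥S → Γ(C, W.1)) :=
      LinearMap.pi fun k => LinearMap.lsmul Γ(X, W.1) Γ(C, W.1) (FormalFun.gA (A := A) W.1 k.1)
    obtain ⟨c, hc⟩ := J.exists_pow_inf_eq_pow_smul (LinearMap.range L)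
    refine ⟨c, fun c' hc' n z hz => ?_⟩
    have h2 : L z ∈ J ^ (n + c' + 1) • (⊤ : Submodule Γ(X, W.1) (↥S → Γ(C, W.1))) := by
      rw [← Finset.univ_sum_single (L z)]
      refine Submodule.sum_mem _ fun k _ => ?_
      have h3 := Submodule.mem_map_of_mem
        (f := LinearMap.single Γ(X, W.1) (fun _ : ↥S => Γ(C, W.1)) k) (hz k)
      rw [Submodule.map_smul''] at h3
      exact Submodule.smul_mono le_rfl le_top h3
    have h3 := (hc (n + c' + 1) (by omega)).le ⟨h2, LinearMap.mem_range_self L z⟩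
    have h4 := Submodule.smul_mono (Ideal.pow_le_pow_right (show n + 1 ≤ n + c' + 1 - c by omega)) inf_le_right h3
    rw [LinearMap.range_eq_map, ← Submodule.map_smul''] at h4
    obtain ⟨z', hz', hzz⟩ := h4
    refine ⟨z', hz', fun l => ?_⟩
    exact congrFun (show L (z - z') = 0 by rw [map_sub, hzz, sub_self]) l
  choose cW hcW using hAR
  let c := σ.sup cW
  have hCF := isCohFormal_completion' (I := I) hP
  have hz : ∀ n, trM F (Nat.le_add_right n c) ≫ β.app (op n) ≫
      cokernel.π ((cmap I (kernel.ι d)).app (op n)) = 0 := fun n => by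
    have hCH := (isCohFormal_completion' (I := I) hH).1 n
    haveI := (CohDev.isCoh_cokernel ((cmap I (kernel.ι d)).app (op n)) hCH.1 (hCF.1 n)).1
    haveI := (hCF.1 (n + c)).1
    haveI := (hF.1 (n + c)).1
    refine QCohGen.Noeth.eq_zero_of_cover _ fun x => ?_
    obtain ⟨W, hW, hxW⟩ := hσ x
    refine ⟨W, hxW, fun w => ?_⟩
    obtain ⟨y, hy⟩ := QCoh.app_surjective_of_epi (cπ I P (n + c)) W.2 ((β.app (op (n + c))).app W.1 w)
    have hl : ∀ l : ↥S, FormalFun.gA (A := A) W.1 l.1 • (cokernel.π Δ).app W.1 y ∈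
        (I.map (FormalFun.gA (A := A) W.1)) ^ (n + c + 1) • (⊤ : Submodule Γ(X, W.1) Γ(C, W.1)) := fun l => by
      refine (cπ_app_eq_zero_iff C (n + c) W _).1 ?_
      rw [Scheme.Modules.Hom.app_smul, ← FormalFun.app_comp, ← cπ_cmap, FormalFun.app_comp, hy,
        ← FormalFun.app_comp, ← Scheme.Modules.Hom.app_smul, ← FormalFun.smulMod_app, ← FormalFun.app_comp,
        show Formal.smulMod A (F.obj (op (n + c))) l.1 = (θ l).app (op (n + c)) ≫ α.app (op (n + c)) from
          (congrArg (fun φ => NatTrans.app φ (op (n + c))) (hθ₁ l)).symm, Category.assoc,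
        ← Category.assoc (α.app _), hαβ, cmap_comp_app, cokernel.condition,
        show (cmap I (0 : G ⟶ C)).app (op (n + c)) = 0 by
          rw [← cancel_epi (cπ I G (n + c)), cπ_cmap, zero_comp, comp_zero], comp_zero]
      rfl
    obtain ⟨z', hz', hzl⟩ := hcW W c (Finset.le_sup (f := cW) hW) n _ hl
    have hsurj : Function.Surjective ((cokernel.π Δ).app W.1) := QCoh.app_surjective_of_epi (cokernel.π Δ) W.2
    let πL : Γ(P, W.1) →ₗ[Γ(X, W.1)] Γ(C, W.1) :=
      { toFun := (cokernel.π Δ).app W.1, map_add' := map_add _,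
        map_smul' := fun a x => Scheme.Modules.Hom.app_smul _ a x }
    rw [← LinearMap.range_eq_top.mpr (show Function.Surjective πL from hsurj), LinearMap.range_eq_map,
      ← Submodule.map_smul''] at hz'
    obtain ⟨y', hy', rfl⟩ := hz'
    obtain ⟨t, ht⟩ := exists_app_eq_of_kernel d W.1 (y - y') (eq_zero_of_π W.1 _ fun l => by
      rw [← FormalFun.app_comp, biproduct.lift_π, FormalFun.app_comp, FormalFun.smulMod_app, map_sub]
      exact hzl l)
    have h6 : (trM F (Nat.le_add_right n c) ≫ β.app (op n)).app W.1 w =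
        ((cmap I (kernel.ι d)).app (op n)).app W.1 ((cπ I H n).app W.1 t) := by
      rw [β.naturality, FormalFun.app_comp, ← hy, ← FormalFun.app_comp, cπ_trM, ← FormalFun.app_comp, cπ_cmap,
        FormalFun.app_comp (kernel.ι d), ht, map_sub, (cπ_app_eq_zero_iff P n W y').2 hy', sub_zero]
    rw [← Category.assoc, FormalFun.app_comp, h6, ← FormalFun.app_comp _ (cokernel.π _), cokernel.condition]
    rfl
  obtain ⟨γ, hγu, hγη⟩ := exists_lift hP hH (kernel.ι d) hσ hF β c hz
  have hEepi : ∀ n m (h : n ≤ m), Epi (trM (Formal.completion I G) h) := fun n m h =>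
    (Formal61.Sys.isModQuot_map (isCohFormal_completion' (I := I) hG).2.1
      (isCohFormal_completion' (I := I) hG).2.2 h).epi
  have hαγ : α ≫ γ = cmap I δ := hγη _ (cmap I δ) α hEepi (NatTrans.ext (funext fun i => by
    rw [NatTrans.comp_app, NatTrans.comp_app, ← op_unop i, cmap_comp_app, hδι, hαβ]))
  have hCH := isCohFormal_completion' (I := I) hH
  have hkγ : ∀ n, Formal.KilledBy (I ^ s) (kernel (γ.app (op n))) := fun n => by
    refine killedBy_of_gens hσ hSspan (CohDev.isCoh_kernel _ (hF.1 n) (hCH.1 n).1) fun a ha => ?_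
    rw [← cancel_mono (kernel.ι (γ.app (op n))), zero_comp, FormalFun.smulMod_natural,
      show Formal.smulMod A (F.obj (op n)) a = (θ ⟨a, ha⟩).app (op n) ≫ α.app (op n) from
        (congrArg (fun φ => NatTrans.app φ (op n)) (hθ₁ ⟨a, ha⟩)).symm, ← hβπ, ← hγu, NatTrans.comp_app]
    simp only [← Category.assoc, kernel.condition, zero_comp]
  have hcδ : Formal.KilledBy (I ^ s) (cokernel δ) := by
    have hCδ := CohDev.isCoh_cokernel δ hG.1 hH
    refine killedBy_of_gens hσ hSspan hCδ fun a ha => ?_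
    haveI := hCδ.1
    refine QCohGen.Noeth.eq_zero_of_cover _ fun x => ?_
    obtain ⟨W, hW, hxW⟩ := hσ x
    refine ⟨W, hxW, fun y => ?_⟩
    obtain ⟨h, rfl⟩ := QCoh.app_surjective_of_epi (cokernel.π δ) W.2 y
    obtain ⟨g, hg⟩ := exists_app_eq_of_cokernel Δ hG hP W
      (FormalFun.gA (A := A) W.1 a • (kernel.ι d).app W.1 h) (by
        rw [Scheme.Modules.Hom.app_smul, ← FormalFun.smulMod_app, ← FormalFun.app_comp, ← FormalFun.app_comp,
          ← biproduct.lift_π (fun l : ↥S => cokernel.π Δ ≫ Formal.smulMod A C l.1) ⟨a, ha⟩,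
          show kernel.ι d ≫ d ≫ biproduct.π _ (⟨a, ha⟩ : ↥S) = 0 by rw [kernel.condition_assoc, zero_comp]]
        rfl)
    have h2 : δ.app W.1 g = FormalFun.gA (A := A) W.1 a • h := QCoh.app_injective_of_mono (kernel.ι d) W.1 (by
      rw [Scheme.Modules.Hom.app_smul, ← FormalFun.app_comp, hδι]
      exact hg)
    rw [FormalFun.smulMod_app, ← Scheme.Modules.Hom.app_smul, ← h2, ← FormalFun.app_comp, cokernel.condition]
    rfl
  have hcγ : ∀ n, Formal.KilledBy (I ^ s) (cokernel (γ.app (op n))) := fun n => by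
    have h0 : δ ≫ cπ I H n ≫ cokernel.π (γ.app (op n)) = 0 := by
      rw [← Category.assoc, ← cπ_cmap, ← hαγ, NatTrans.comp_app, Category.assoc, Category.assoc,
        cokernel.condition, comp_zero, comp_zero]
    haveI : Epi (cokernel.desc δ _ h0) := by
      haveI : Epi (cokernel.π δ ≫ cokernel.desc δ _ h0) := by rw [cokernel.π_desc]; infer_instance
      exact epi_of_epi (cokernel.π δ) _
    exact Formal61.Sys.killedBy_of_epi (cokernel.desc δ _ h0) hcδ
  obtain ⟨M, aM, b, hM, ⟨t, ht1, ht2⟩, hb⟩ := Tricky.main (IdealQuot.baseIdeal X I) hF (Base.hyp I) hH γ s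
    (fun n => Base.killed_of_killedBy (hkγ n)) (fun n => Base.killed_of_killedBy (hcγ n))
  have hk1 := Base.killedBy_of_killed (CohDev.isCoh_kernel aM hM hH.1).1 ht1
  have hk2 := Base.killedBy_of_killed (CohDev.isCoh_cokernel aM hM.1 hH).1 ht2
  obtain ⟨φ, hφ, hφn⟩ := exists_hom_of_comp hG hM hH aM hk1 hk2 δ (α ≫ b.hom) (by
    refine NatTrans.ext (funext fun i => ?_)
    obtain ⟨n⟩ := i
    have hbn : b.inv.app (op n) ≫ γ.app (op n) = (cmap I aM).app (op n) := by
      rw [← cancel_epi (cπ I M n), cπ_cmap]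
      exact hb n
    rw [NatTrans.comp_app, NatTrans.comp_app, ← hbn, Category.assoc, Iso.hom_inv_id_app_assoc, ← hαγ]
    rfl)
  refine ⟨M, φ, b.symm, hM, ⟨s + t, ?_, ?_⟩, fun n => ?_⟩
  · have hkΔ : Formal.KilledBy (I ^ s) (kernel Δ) :=
      killedBy_of_gens hσ hSspan (CohDev.isCoh_kernel Δ hG hPq) fun a ha => by
        rw [← cancel_mono (kernel.ι Δ), zero_comp, FormalFun.smulMod_natural,
          ← biproduct.lift_π (fun k : ↥S => Formal.smulMod A G k.1) ⟨a, ha⟩, kernel.condition_assoc, zero_comp]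
    have h0 : kernel.ι φ ≫ Δ = 0 := by
      rw [← hδι, ← hφ, ← Category.assoc, ← Category.assoc, kernel.condition, zero_comp, zero_comp]
    haveI : Mono (kernel.lift Δ (kernel.ι φ) h0) := by
      haveI : Mono (kernel.lift Δ (kernel.ι φ) h0 ≫ kernel.ι Δ) := by rw [kernel.lift_ι]; infer_instance
      exact mono_of_mono _ (kernel.ι Δ)
    exact Formal61.Sys.killedBy_mono (Ideal.pow_le_pow_right (by omega))
      (Formal61.Sys.killedBy_of_mono (kernel.lift Δ (kernel.ι φ) h0) hkΔ)
  · have hCφ := CohDev.isCoh_cokernel φ hG.1 hM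
    refine Base.killedBy_of_killed hCφ.1 fun W r hr y => ?_
    haveI := hCφ.1
    haveI := hM.1
    obtain ⟨m, rfl⟩ := QCoh.app_surjective_of_epi (cokernel.π φ) W.2 y
    have hA := Base.killed_of_killedBy hcδ
    rw [Nat.add_assoc] at hr
    simp only [Scheme.IdealSheafData.ideal_pow, Pi.pow_apply, pow_add _ s (t + 1)] at hr
    refine Submodule.mul_induction_on hr (fun b₁ hb₁ b₂ hb₂ => ?_) fun p q hp hq => by
      rw [add_smul, hp, hq, add_zero]
    obtain ⟨g, hg⟩ := exists_app_eq_of_cokernel δ hG hH W (b₁ • aM.app W.1 m) (by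
      rw [Scheme.Modules.Hom.app_smul]
      exact hA W b₁ (by simpa [Scheme.IdealSheafData.ideal_pow] using hb₁) _)
    obtain ⟨z, hz'⟩ := exists_app_eq_of_kernel aM W.1 (b₁ • m - φ.app W.1 g) (by
      rw [map_sub, Scheme.Modules.Hom.app_smul, ← FormalFun.app_comp φ aM, hφ, hg, sub_self])
    have h2 : b₂ • (b₁ • m - φ.app W.1 g) = 0 := by
      rw [← hz', ← Scheme.Modules.Hom.app_smul]
      exact (congrArg _ (ht1 W b₂ (by simpa [Scheme.IdealSheafData.ideal_pow] using hb₂) z)).trans (map_zero _)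
    rw [smul_sub, sub_eq_zero] at h2
    rw [mul_comm, mul_smul]
    refine (congrArg (b₂ • ·) (Scheme.Modules.Hom.app_smul _ _ _).symm).trans
      ((Scheme.Modules.Hom.app_smul _ _ _).symm.trans ?_)
    rw [h2]
    rw [← Scheme.Modules.Hom.app_smul, ← FormalFun.app_comp, cokernel.condition]
    rfl
  · show cπ I G n ≫ α.app (op n) = φ ≫ cπ I M n ≫ b.inv.app (op n)
    rw [← Category.assoc φ, hφn, NatTrans.comp_app, Category.assoc, Category.assoc, Iso.hom_inv_id_app]
    exact (congrArg (cπ I G n ≫ ·) (Category.comp_id _)).symm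

end Groth.Agent.FormalTors.Right
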